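import Groth.Agent.FlatStage.Base
import Groth.Agent.FlatInjCoker.Scheme
import Groth.Agent.BCModel.SectPull
import Groth.Agent.FlatOverBC.Open
import Mathlib.AlgebraicGeometry.Morphisms.Flat

/-!
# Injectivity with flat cokernel of a base changed map, read on affine charts
-/

set_option autoImplicit false
set_option backward.isDefEq.respectTransparency false
set_option linter.style.haveILetI false

noncomputable section

universe u

open CategoryTheory Limits AlgebraicGeometry Opposite TensorProduct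
open Groth.Agent.QCohBase Groth.Agent.FlatOver Groth.Agent.GenLocus

namespace Groth.Agent.FlatStage

open FlatInjCoker

variable {X Y X' Y' : Scheme.{u}} {f : X ⟶ Y} {f' : X' ⟶ Y'} {q : X' ⟶ X} {g : Y' ⟶ Y}
  (hc : IsPullback q f' f g)

section

include hc

theorem preimage_le {W : X.Opens} {V : Y.Opens} (e : W ≤ f ⁻¹ᵁ V) : q ⁻¹ᵁ W ≤ f' ⁻¹ᵁ (g ⁻¹ᵁ V) := by
  rw [← Scheme.Hom.comp_preimage, ← hc.w, Scheme.Hom.comp_preimage]
  exact q.preimage_mono e

/-- The chart square is a pushout of rings. -/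
theorem isPushout_chart [IsAffineHom g] {W : X.Opens} {V : Y.Opens} (hW : IsAffineOpen W) (hV : IsAffineOpen V)
    (e : W ≤ f ⁻¹ᵁ V) :
    IsPushout (f.appLE V W e) (g.app V) (q.app W)
      (f'.appLE (g ⁻¹ᵁ V) (q ⁻¹ᵁ W) (preimage_le hc e)) := by
  have hUY : q ⁻¹ᵁ W = q ⁻¹ᵁ W ⊓ f' ⁻¹ᵁ (g ⁻¹ᵁ V) := (inf_eq_left.mpr (preimage_le hc e)).symm
  have := isIso_pushoutSection_of_isAffineOpen hc (US := V) (UT := g ⁻¹ᵁ V) (UX := W)
    le_rfl e hUY hV (hV.preimage g) hW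
  have h := (isIso_pushoutSection_iff hc (US := V) (UT := g ⁻¹ᵁ V) (UX := W) le_rfl e hUY).mp this
  simpa [Scheme.Hom.app_eq_appLE] using h

theorem isAffineHom_left [IsAffineHom g] : IsAffineHom q :=
  MorphismProperty.of_isPullback hc.flip ‹_›

variable [IsAffineHom g]

/-- Flatness of a pulled back module at a point, on a chart. -/
theorem isFlatOverAt_pullback_iff (F : X.Modules) [F.IsQuasicoherent] {W : X.Opens} {V : Y.Opens}
    (hW : IsAffineOpen W) (hV : IsAffineOpen V) (e : W ≤ f ⁻¹ᵁ V) (hW' : IsAffineOpen (q ⁻¹ᵁ W))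
    (x' : X') (hx : x' ∈ q ⁻¹ᵁ W) :
    letI : Algebra Γ(X, W) Γ(X', q ⁻¹ᵁ W) := (q.app W).hom.toAlgebra
    letI : Algebra Γ(Y', g ⁻¹ᵁ V) Γ(X', q ⁻¹ᵁ W) := (f'.appLE (g ⁻¹ᵁ V) (q ⁻¹ᵁ W) (preimage_le hc e)).hom.toAlgebra
    FlatMod.IsFlatOverAt f' ((Scheme.Modules.pullback q).obj F) x' ↔
      Module.Flat Γ(Y', g ⁻¹ᵁ V)
        (FlatLocus.Loc Γ(X, W) Γ(F, W) (hW'.primeIdealOf ⟨x', hx⟩).asIdeal) := by
  letI : Algebra Γ(X, W) Γ(X', q ⁻¹ᵁ W) := (q.app W).hom.toAlgebra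
  letI : Algebra Γ(Y', g ⁻¹ᵁ V) Γ(X', q ⁻¹ᵁ W) := (f'.appLE (g ⁻¹ᵁ V) (q ⁻¹ᵁ W) (preimage_le hc e)).hom.toAlgebra
  letI := BCModel.pullModule q F W
  haveI : IsScalarTower Γ(X, W) Γ(X', q ⁻¹ᵁ W) Γ((Scheme.Modules.pullback q).obj F, q ⁻¹ᵁ W) :=
    .of_algebraMap_smul fun _ _ => rfl
  letI := baseModule f' ((Scheme.Modules.pullback q).obj F) (preimage_le hc e)
  haveI : IsScalarTower Γ(Y', g ⁻¹ᵁ V) Γ(X', q ⁻¹ᵁ W) Γ((Scheme.Modules.pullback q).obj F, q ⁻¹ᵁ W) :=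
    .of_algebraMap_smul fun _ _ => rfl
  haveI : ((Scheme.Modules.pullback q).obj F).IsQuasicoherent := QCohPull.isQuasicoherent_pullback q F
  let eM := (BCModel.isBaseChange_pullSec q F hW hW').equiv
  rw [FlatOverBC.isFlatOverAt_iff_localized f' _ (preimage_le hc e) hW' (hV.preimage g) x' hx]
  exact ⟨fun _ => FlatLocus.flat_localized_congr eM.symm _, fun _ => FlatLocus.flat_localized_congr eM _⟩

/-- Injectivity with flat cokernel of a pulled back map at a point, on a chart. -/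
theorem injFlat_pullback_iff {F G : X.Modules} [F.IsQuasicoherent] [G.IsQuasicoherent] (h : F ⟶ G)
    {W : X.Opens} {V : Y.Opens} (hW : IsAffineOpen W) (hV : IsAffineOpen V) (e : W ≤ f ⁻¹ᵁ V)
    (hW' : IsAffineOpen (q ⁻¹ᵁ W)) (x' : X') (hx : x' ∈ q ⁻¹ᵁ W) :
    letI : Algebra Γ(X, W) Γ(X', q ⁻¹ᵁ W) := (q.app W).hom.toAlgebra
    letI : Algebra Γ(Y', g ⁻¹ᵁ V) Γ(X', q ⁻¹ᵁ W) := (f'.appLE (g ⁻¹ᵁ V) (q ⁻¹ᵁ W) (preimage_le hc e)).hom.toAlgebra
    (Function.Injective ((TopCat.Presheaf.stalkFunctor Ab x').map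
        (Scheme.Modules.Hom.mapPresheaf ((Scheme.Modules.pullback q).map h))) ∧
      FlatMod.IsFlatOverAt f' (cokernel ((Scheme.Modules.pullback q).map h)) x') ↔
      InjFlat Γ(Y', g ⁻¹ᵁ V) ((appL h W).baseChange Γ(X', q ⁻¹ᵁ W)) (hW'.primeIdealOf ⟨x', hx⟩).asIdeal := by
  letI : Algebra Γ(X, W) Γ(X', q ⁻¹ᵁ W) := (q.app W).hom.toAlgebra
  letI : Algebra Γ(Y', g ⁻¹ᵁ V) Γ(X', q ⁻¹ᵁ W) := (f'.appLE (g ⁻¹ᵁ V) (q ⁻¹ᵁ W) (preimage_le hc e)).hom.toAlgebra
  letI := BCModel.pullModule q F W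
  letI := BCModel.pullModule q G W
  haveI : IsScalarTower Γ(X, W) Γ(X', q ⁻¹ᵁ W) Γ((Scheme.Modules.pullback q).obj F, q ⁻¹ᵁ W) :=
    .of_algebraMap_smul fun _ _ => rfl
  haveI : IsScalarTower Γ(X, W) Γ(X', q ⁻¹ᵁ W) Γ((Scheme.Modules.pullback q).obj G, q ⁻¹ᵁ W) :=
    .of_algebraMap_smul fun _ _ => rfl
  haveI : ((Scheme.Modules.pullback q).obj F).IsQuasicoherent := QCohPull.isQuasicoherent_pullback q F
  haveI : ((Scheme.Modules.pullback q).obj G).IsQuasicoherent := QCohPull.isQuasicoherent_pullback q G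
  letI := baseModule f' ((Scheme.Modules.pullback q).obj G) (preimage_le hc e)
  haveI : IsScalarTower Γ(Y', g ⁻¹ᵁ V) Γ(X', q ⁻¹ᵁ W) Γ((Scheme.Modules.pullback q).obj G, q ⁻¹ᵁ W) :=
    .of_algebraMap_smul fun _ _ => rfl
  let eM := (BCModel.isBaseChange_pullSec q F hW hW').equiv
  let eN := (BCModel.isBaseChange_pullSec q G hW hW').equiv
  have key : ∀ z, eN ((appL h W).baseChange Γ(X', q ⁻¹ᵁ W) z) =
      appL ((Scheme.Modules.pullback q).map h) (q ⁻¹ᵁ W) (eM z) := by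
    intro z
    induction z with
    | zero => simp
    | add a b ha hb => simp only [map_add, ha, hb]
    | tmul b m =>
      rw [LinearMap.baseChange_tmul, IsBaseChange.equiv_tmul, IsBaseChange.equiv_tmul, map_smul]
      exact congrArg (b • ·) (pullSec_naturality q h m).symm
  refine (injFlat_iff f' (preimage_le hc e) _ hW' (hV.preimage g) x' hx).trans
    ⟨fun hu => InjFlat.congr (R := Γ(Y', g ⁻¹ᵁ V)) eM.symm eN.symm (fun z => ?_) hu,
      fun hu => InjFlat.congr (R := Γ(Y', g ⁻¹ᵁ V)) eM eN key hu⟩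
  rw [LinearEquiv.symm_apply_eq, key, LinearEquiv.apply_symm_apply]

end

/-- The condition does not change along an isomorphism of maps. -/
theorem injFlat_iso_iff (f : X ⟶ Y) {F G F' G' : X.Modules} [F.IsQuasicoherent] [G.IsQuasicoherent]
    [F'.IsQuasicoherent] [G'.IsQuasicoherent] (h : F ⟶ G) (h' : F' ⟶ G') (eF : F ≅ F') (eG : G ≅ G')
    (hcomm : h ≫ eG.hom = eF.hom ≫ h') (x : X) :
    (Function.Injective ((TopCat.Presheaf.stalkFunctor Ab x).map (Scheme.Modules.Hom.mapPresheaf h)) ∧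
      FlatMod.IsFlatOverAt f (cokernel h) x) →
    (Function.Injective ((TopCat.Presheaf.stalkFunctor Ab x).map (Scheme.Modules.Hom.mapPresheaf h')) ∧
      FlatMod.IsFlatOverAt f (cokernel h') x) := by
  obtain ⟨V, hV, hfx, -⟩ := exists_isAffineOpen_mem_and_subset (x := f x) (U := ⊤) trivial
  obtain ⟨U, hU, hxU, hle⟩ := exists_isAffineOpen_mem_and_subset (x := x) (U := f ⁻¹ᵁ V) hfx
  intro hu
  letI : Algebra Γ(Y, V) Γ(X, U) := (f.appLE V U hle).hom.toAlgebra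
  letI := baseModule f G hle
  letI := baseModule f G' hle
  haveI : IsScalarTower Γ(Y, V) Γ(X, U) Γ(G, U) := .of_algebraMap_smul fun _ _ ↦ rfl
  haveI : IsScalarTower Γ(Y, V) Γ(X, U) Γ(G', U) := .of_algebraMap_smul fun _ _ ↦ rfl
  let lin : ∀ {A B : X.Modules} (_ : A ≅ B), Γ(A, U) ≃ₗ[Γ(X, U)] Γ(B, U) := fun {A B} i =>
    LinearEquiv.ofLinearMap (appL i.hom U) (appL i.inv U)
      (LinearMap.ext fun s => by
        show i.hom.app U (i.inv.app U s) = s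
        rw [← ConcreteCategory.comp_apply, ← Scheme.Modules.Hom.comp_app, i.inv_hom_id]; rfl)
      (LinearMap.ext fun s => by
        show i.inv.app U (i.hom.app U s) = s
        rw [← ConcreteCategory.comp_apply, ← Scheme.Modules.Hom.comp_app, i.hom_inv_id]; rfl)
  refine (injFlat_iff f hle h' hU hV x hxU).2 (InjFlat.congr (R := Γ(Y, V)) (lin eF) (lin eG) (fun s => ?_)
    ((injFlat_iff f hle h hU hV x hxU).1 hu))
  show eG.hom.app U (h.app U s) = h'.app U (eF.hom.app U s)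
  rw [← ConcreteCategory.comp_apply, ← ConcreteCategory.comp_apply, ← Scheme.Modules.Hom.comp_app,
    ← Scheme.Modules.Hom.comp_app, hcomm]

include hc in
/-- The condition is stable under base change along an affine morphism. -/
theorem injFlat_of_pullback [IsAffineHom g] {F G : X.Modules} [F.IsQuasicoherent] [G.IsQuasicoherent]
    (h : F ⟶ G) (x' : X')
    (hu : Function.Injective ((TopCat.Presheaf.stalkFunctor Ab (q x')).map (Scheme.Modules.Hom.mapPresheaf h)) ∧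
      FlatMod.IsFlatOverAt f (cokernel h) (q x')) :
    Function.Injective ((TopCat.Presheaf.stalkFunctor Ab x').map
        (Scheme.Modules.Hom.mapPresheaf ((Scheme.Modules.pullback q).map h))) ∧
      FlatMod.IsFlatOverAt f' (cokernel ((Scheme.Modules.pullback q).map h)) x' := by
  obtain ⟨V, hV, hfx, -⟩ := exists_isAffineOpen_mem_and_subset (x := f (q x')) (U := ⊤) trivial
  obtain ⟨W, hW, hxW, e⟩ := exists_isAffineOpen_mem_and_subset (x := q x') (U := f ⁻¹ᵁ V) hfx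
  haveI := isAffineHom_left hc
  have hW' : IsAffineOpen (q ⁻¹ᵁ W) := hW.preimage q
  have hp := isPushout_chart hc hW hV e
  letI : Algebra Γ(Y, V) Γ(X, W) := (f.appLE V W e).hom.toAlgebra
  letI : Algebra Γ(X, W) Γ(X', q ⁻¹ᵁ W) := (q.app W).hom.toAlgebra
  letI : Algebra Γ(Y', g ⁻¹ᵁ V) Γ(X', q ⁻¹ᵁ W) := (f'.appLE (g ⁻¹ᵁ V) (q ⁻¹ᵁ W) (preimage_le hc e)).hom.toAlgebra
  letI : Algebra Γ(Y, V) Γ(Y', g ⁻¹ᵁ V) := (g.app V).hom.toAlgebra
  letI : Algebra Γ(Y, V) Γ(X', q ⁻¹ᵁ W) := (g.app V ≫ f'.appLE _ _ (preimage_le hc e)).hom.toAlgebra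
  haveI : IsScalarTower Γ(Y, V) Γ(Y', g ⁻¹ᵁ V) Γ(X', q ⁻¹ᵁ W) := IsScalarTower.of_algebraMap_eq' rfl
  haveI : IsScalarTower Γ(Y, V) Γ(X, W) Γ(X', q ⁻¹ᵁ W) :=
    IsScalarTower.of_algebraMap_eq' (congrArg CommRingCat.Hom.hom hp.w.symm)
  haveI : Algebra.IsPushout Γ(Y, V) Γ(Y', g ⁻¹ᵁ V) Γ(X, W) Γ(X', q ⁻¹ᵁ W) :=
    CommRingCat.isPushout_iff_isPushout.mp hp.flip
  letI := baseModule f G e
  haveI : IsScalarTower Γ(Y, V) Γ(X, W) Γ(G, W) := .of_algebraMap_smul fun _ _ ↦ rfl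
  refine (injFlat_pullback_iff hc h hW hV e hW' x' hxW).2 ?_
  refine injFlat_baseChange (R := Γ(Y, V)) (appL h W) _ _ ?_ ((injFlat_iff f e h hW hV (q x') hxW).1 hu)
  have := IsAffineOpen.comap_primeIdealOf_appLE (f := q) W hW (q ⁻¹ᵁ W) hW' le_rfl hxW
  rw [← Scheme.Hom.app_eq_appLE] at this
  exact congrArg PrimeSpectrum.asIdeal this

end Groth.Agent.FlatStage
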