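import Groth.Agent.FlatStage.Stage
import Groth.Agent.FlatLocus.Scheme
import Groth.Agent.LimSch.Pullback

/-!
# Flatness and injectivity with flat cokernel on a limit of schemes come from a stage
-/

set_option autoImplicit false
set_option backward.isDefEq.respectTransparency false
set_option linter.style.haveILetI false

noncomputable section

universe u

open CategoryTheory Limits AlgebraicGeometry Opposite TensorProduct
open Groth.Agent.FlatFunLib Groth.Agent.LimSch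

namespace Groth.Agent.FlatStage

open FlatInjCoker

variable {I : Type u} [SmallCategory I] [IsCofiltered I] (D : I ⥤ Scheme.{u}) (c : Cone D) (hc : IsLimit c)
  [∀ (i j : I) (φ : i ⟶ j), IsAffineHom (D.map φ)] {i : I} {X₀ : Scheme.{u}} (f₀ : X₀ ⟶ D.obj i)
  [LocallyOfFinitePresentation f₀] {X : Scheme.{u}} {qX : X ⟶ X₀} {f : X ⟶ c.pt}
  (hX : IsPullback qX f f₀ (c.π.app i))

/-- Flatness at a point is invariant under isomorphism. -/
theorem isFlatOverAt_congr_iso {A B : Scheme.{u}} (a : A ⟶ B) {M N : A.Modules} (e : M ≅ N) (x : A)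
    (h : FlatMod.IsFlatOverAt a M x) : FlatMod.IsFlatOverAt a N x := by
  let l : M.presheaf.stalk x ≃ₗ[A.presheaf.stalk x] N.presheaf.stalk x :=
    ((DerSch.stalkFunctor A x).mapIso e).toLinearEquiv
  letI := FlatMod.moduleStalkOver a M x
  letI := FlatMod.moduleStalkOver a N x
  haveI : Module.Flat (B.presheaf.stalk (a.base x)) (M.presheaf.stalk x) := h
  exact Module.Flat.of_linearEquiv
    ({ l.symm.toAddEquiv with map_smul' := fun r m => l.symm.map_smul ((a.stalkMap x).hom r) m } :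
      N.presheaf.stalk x ≃ₗ[B.presheaf.stalk (a.base x)] M.presheaf.stalk x)

/-- The condition: injective at the point with cokernel flat over the base there. -/
def Cond {A B : Scheme.{u}} {F G : X₀.Modules} (h : F ⟶ G) (a : A ⟶ B) (p : A ⟶ X₀) (x : A) : Prop :=
  Function.Injective ((TopCat.Presheaf.stalkFunctor Ab x).map
      (Scheme.Modules.Hom.mapPresheaf ((Scheme.Modules.pullback p).map h))) ∧
    FlatMod.IsFlatOverAt a (cokernel ((Scheme.Modules.pullback p).map h)) x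

include hc hX in
/-- Injectivity with flat cokernel at a point comes from a stage, over the bases. -/
theorem exists_stage_cond {F G : X₀.Modules} [F.IsQuasicoherent] [G.IsQuasicoherent] (hF : CohB1.IsFP F)
    (hG : CohB1.IsFP G) (h₀ : F ⟶ G) (x : X) (hu : Cond h₀ f qX x) :
    ∃ j : Over i, ∀ (Xj : Scheme.{u}) (pX : Xj ⟶ X₀) (fj : Xj ⟶ D.obj j.left)
      (_ : IsPullback pX fj f₀ (D.map j.hom)) (vX : X ⟶ Xj) (_ : vX ≫ pX = qX)
      (_ : vX ≫ fj = f ≫ c.π.app j.left), Cond h₀ fj pX (vX x) := by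
  have := isAffineHom_π D c hc i
  have := isAffineHom_left hX
  obtain ⟨V, hV, hxV, -⟩ := exists_isAffineOpen_mem_and_subset (x := f₀ (qX x)) (U := ⊤) trivial
  obtain ⟨W, hW, hxW, e⟩ := exists_isAffineOpen_mem_and_subset (x := qX x) (U := f₀ ⁻¹ᵁ V) hxV
  haveI := FinLocFreeSections.finitePresentation_sections F hF hW
  haveI := FinLocFreeSections.finitePresentation_sections G hG hW
  obtain ⟨j, hj⟩ := exists_stage_injFlat D c hc f₀ hX hV hW e (QCohBase.appL h₀ W) (hW.preimage qX) x hxW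
    ((injFlat_pullback_iff hX h₀ hW hV e (hW.preimage qX) x hxW).1 hu)
  refine ⟨j, fun Xj pX fj hsq vX h1 h2 => ?_⟩
  have := isAffineHom_left hsq
  have hx' : vX x ∈ pX ⁻¹ᵁ W := by
    show pX (vX x) ∈ W
    rw [← Scheme.Hom.comp_apply, h1]
    exact hxW
  exact (injFlat_pullback_iff hsq h₀ hW hV e (hW.preimage pX) (vX x) hx').2
    (hj Xj pX fj hsq vX h1 h2 (hW.preimage pX) hx')

/-- The zero map from the zero module. -/
theorem injFlat_zero_iff {R S N : Type u} [CommRing R] [CommRing S] [Algebra R S] {C : Type u} [CommRing C]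
    [Algebra C S] [AddCommGroup N] [Module C N] (q : Ideal S) [q.IsPrime] :
    InjFlat R ((0 : (Fin 0 → C) →ₗ[C] N).baseChange S) q ↔ Module.Flat R (FlatLocus.Loc C N q) := by
  obtain ⟨e⟩ := exists_coker_baseChange_equiv (B := S) (0 : (Fin 0 → C) →ₗ[C] N)
  let e₀ : (N ⧸ LinearMap.range (0 : (Fin 0 → C) →ₗ[C] N)) ≃ₗ[C] N :=
    Submodule.quotEquivOfEqBot _ LinearMap.range_zero
  let e' := e.trans (LinearEquiv.baseChange C S _ _ e₀)
  constructor
  · rintro ⟨-, hflat⟩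
    exact FlatLocus.flat_localized_congr e' q.primeCompl
  · intro hflat
    refine ⟨fun z h => ⟨1, q.primeCompl.one_mem, ?_⟩, FlatLocus.flat_localized_congr e'.symm q.primeCompl⟩
    rw [one_smul]
    clear h
    induction z with
    | zero => rfl
    | add a b ha hb => rw [ha, hb, add_zero]
    | tmul a m => rw [Subsingleton.elim m 0, TensorProduct.tmul_zero]

include hc hX in
/-- Flatness at a point comes from a stage, over the bases. -/
theorem exists_stage_flat {F : X₀.Modules} [F.IsQuasicoherent] (hF : CohB1.IsFP F) (x : X)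
    (hu : FlatMod.IsFlatOverAt f ((Scheme.Modules.pullback qX).obj F) x) :
    ∃ j : Over i, ∀ (Xj : Scheme.{u}) (pX : Xj ⟶ X₀) (fj : Xj ⟶ D.obj j.left)
      (_ : IsPullback pX fj f₀ (D.map j.hom)) (vX : X ⟶ Xj) (_ : vX ≫ pX = qX)
      (_ : vX ≫ fj = f ≫ c.π.app j.left),
      FlatMod.IsFlatOverAt fj ((Scheme.Modules.pullback pX).obj F) (vX x) := by
  have := isAffineHom_π D c hc i
  have := isAffineHom_left hX
  obtain ⟨V, hV, hxV, -⟩ := exists_isAffineOpen_mem_and_subset (x := f₀ (qX x)) (U := ⊤) trivial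
  obtain ⟨W, hW, hxW, e⟩ := exists_isAffineOpen_mem_and_subset (x := qX x) (U := f₀ ⁻¹ᵁ V) hxV
  haveI := FinLocFreeSections.finitePresentation_sections F hF hW
  obtain ⟨j, hj⟩ := exists_stage_injFlat D c hc f₀ hX hV hW e (0 : (Fin 0 → Γ(X₀, W)) →ₗ[Γ(X₀, W)] Γ(F, W))
    (hW.preimage qX) x hxW
    (letI : Algebra Γ(X₀, W) Γ(X, qX ⁻¹ᵁ W) := (qX.app W).hom.toAlgebra
     letI : Algebra Γ(c.pt, c.π.app i ⁻¹ᵁ V) Γ(X, qX ⁻¹ᵁ W) :=
      (f.appLE (c.π.app i ⁻¹ᵁ V) (qX ⁻¹ᵁ W) (preimage_le hX e)).hom.toAlgebra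
     (injFlat_zero_iff _).2 ((isFlatOverAt_pullback_iff hX F hW hV e (hW.preimage qX) x hxW).1 hu))
  refine ⟨j, fun Xj pX fj hsq vX h1 h2 => ?_⟩
  have := isAffineHom_left hsq
  have hx' : vX x ∈ pX ⁻¹ᵁ W := by
    show pX (vX x) ∈ W
    rw [← Scheme.Hom.comp_apply, h1]
    exact hxW
  letI : Algebra Γ(X₀, W) Γ(Xj, pX ⁻¹ᵁ W) := (pX.app W).hom.toAlgebra
  letI : Algebra Γ(D.obj j.left, D.map j.hom ⁻¹ᵁ V) Γ(Xj, pX ⁻¹ᵁ W) :=
    (fj.appLE (D.map j.hom ⁻¹ᵁ V) (pX ⁻¹ᵁ W) (preimage_le hsq e)).hom.toAlgebra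
  exact (isFlatOverAt_pullback_iff hsq F hW hV e (hW.preimage pX) (vX x) hx').2
    ((injFlat_zero_iff _).1 (hj Xj pX fj hsq vX h1 h2 (hW.preimage pX) hx'))

variable {Y₀ Y : Scheme.{u}} (i₀ : I) (g₀ : Y₀ ⟶ D.obj i₀) (f₁ : X₀ ⟶ Y₀) (g : Y ⟶ c.pt) (qY : Y ⟶ Y₀)
  (f' : X ⟶ Y) (hY : IsPullback qY g g₀ (c.π.app i₀)) (hX' : IsPullback qX f' f₁ qY)

include hc hY hX' in
/-- From stages over the base to stages of a morphism of schemes over the base. -/
theorem exists_stage_of_core (Q : ∀ {A B : Scheme.{u}}, (A ⟶ B) → (A ⟶ X₀) → (X ⟶ A) → Prop) [LocallyOfFinitePresentation f₁]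
    (hcore : ∀ {J : Type u} [SmallCategory J] [IsCofiltered J] (D' : J ⥤ Scheme.{u}) (c' : Cone D') (_ : IsLimit c')
      [∀ (i j : J) (φ : i ⟶ j), IsAffineHom (D'.map φ)] {i : J} (f₀ : X₀ ⟶ D'.obj i) [LocallyOfFinitePresentation f₀]
      {qX : X ⟶ X₀} {f : X ⟶ c'.pt} (_ : IsPullback qX f f₀ (c'.π.app i)), Q f qX (𝟙 X) →
      ∃ j : Over i, ∀ (Xj : Scheme.{u}) (pX : Xj ⟶ X₀) (fj : Xj ⟶ D'.obj j.left)
        (_ : IsPullback pX fj f₀ (D'.map j.hom)) (vX : X ⟶ Xj) (_ : vX ≫ pX = qX)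
        (_ : vX ≫ fj = f ≫ c'.π.app j.left), Q fj pX vX)
    (hu : Q f' qX (𝟙 X)) :
    ∃ (i : I) (φ : i ⟶ i₀) (Xi Yi : Scheme.{u}) (fi : Xi ⟶ Yi) (gi : Yi ⟶ D.obj i)
      (pY : Yi ⟶ Y₀) (pX : Xi ⟶ X₀) (vY : Y ⟶ Yi) (vX : X ⟶ Xi),
      IsPullback pY gi g₀ (D.map φ) ∧ IsPullback pX fi f₁ pY ∧
        vY ≫ pY = qY ∧ vY ≫ gi = g ≫ c.π.app i ∧ vX ≫ pX = qX ∧ vX ≫ fi = f' ≫ vY ∧ Q fi pX vX := by
  let top : Over i₀ := Over.mk (𝟙 i₀)
  have : IsIso (D.map top.hom) := by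
    show IsIso (D.map (𝟙 i₀))
    infer_instance
  let e := pullback.snd (D.map top.hom) g₀
  let c' := bcCone D c i₀ g₀ g qY hY.flip
  have hπ : c'.π.app top ≫ e = qY := pullback.lift_snd _ _ _
  have : LocallyOfFinitePresentation (f₁ ≫ inv e) := inferInstance
  have hX'' : IsPullback qX f' (f₁ ≫ inv e) (c'.π.app top) :=
    IsPullback.of_iso hX' (Iso.refl _) (Iso.refl _) (Iso.refl _) (asIso (inv e)) (by simp) (by simp) (by simp) (by
      rw [asIso_hom, Iso.refl_hom, Category.id_comp, ← hπ, Category.assoc, IsIso.hom_inv_id, Category.comp_id])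
  obtain ⟨k, hk⟩ := hcore (bcDiag D i₀ g₀) c' (isLimitBcCone D c i₀ g₀ hc g qY hY.flip) (f₁ ≫ inv e) hX'' hu
  let j := k.left
  let pY := pullback.snd (D.map j.hom) g₀
  have hmap : (bcDiag D i₀ g₀).map k.hom ≫ e = pY := (bcSnd D i₀ g₀).naturality k.hom |>.trans (Category.comp_id _)
  let pX := pullback.fst f₁ pY
  let fi := pullback.snd f₁ pY
  let vY : Y ⟶ (bcDiag D i₀ g₀).obj j := c'.π.app j
  have hvY : vY ≫ pY = qY := pullback.lift_snd _ _ _
  let vX : X ⟶ pullback f₁ pY := pullback.lift qX (f' ≫ vY) (by rw [Category.assoc, hvY, hX'.w])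
  refine ⟨j.left, j.hom, _, _, fi, pullback.fst (D.map j.hom) g₀, pY, pX, vY, vX,
    (IsPullback.of_hasPullback _ _).flip, IsPullback.of_hasPullback _ _, hvY, pullback.lift_fst _ _ _,
    pullback.lift_fst _ _ _, pullback.lift_snd _ _ _, ?_⟩
  refine hk _ pX fi ?_ vX (pullback.lift_fst _ _ _) (pullback.lift_snd _ _ _)
  exact IsPullback.of_iso (IsPullback.of_hasPullback f₁ pY) (Iso.refl _) (Iso.refl _) (Iso.refl _) (asIso (inv e))
    (by simp [pX]) (by simp [fi]) (by simp) (by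
      rw [asIso_hom, Iso.refl_hom, Category.id_comp, ← hmap, Category.assoc, IsIso.hom_inv_id, Category.comp_id])

include hc hY hX' in
omit [LocallyOfFinitePresentation f₀] in
/-- A stage square pulls back to the limit along an affine morphism. -/
theorem isPullback_of_stage {j : I} (φ : j ⟶ i₀) {Xi Yi : Scheme.{u}} {fi : Xi ⟶ Yi} {gi : Yi ⟶ D.obj j}
    {pY : Yi ⟶ Y₀} {pX : Xi ⟶ X₀} {vY : Y ⟶ Yi} {vX : X ⟶ Xi} (hYi : IsPullback pY gi g₀ (D.map φ))
    (hXi : IsPullback pX fi f₁ pY) (h1 : vY ≫ pY = qY) (h2 : vY ≫ gi = g ≫ c.π.app j) (h3 : vX ≫ pX = qX)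
    (h4 : vX ≫ fi = f' ≫ vY) : IsPullback vX f' fi vY ∧ IsAffineHom vY := by
  have hYv : IsPullback vY g gi (c.π.app j) := by
    refine IsPullback.of_right (h₁₂ := pY) (h₂₂ := D.map φ) (v₁₃ := g₀) ?_ h2 hYi
    rw [h1, c.w φ]
    exact hY
  have := isAffineHom_π D c hc j
  refine ⟨IsPullback.of_right (h₁₂ := pX) (h₂₂ := pY) (v₁₃ := f₁) ?_ h4 hXi,
    MorphismProperty.of_isPullback hYv.flip inferInstance⟩
  rw [h3, h1]
  exact hX'

end Groth.Agent.FlatStage
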