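import Groth.Agent.FlatInjCoker.Basic
import Groth.Agent.FlatFibrePD.Basic
import Groth.Agent.FlatLocus.Model

/-!
# Maps injective at a prime with flat cokernel, under base change
-/

set_option autoImplicit false
set_option backward.isDefEq.respectTransparency false
set_option linter.style.haveILetI false

universe u

open TensorProduct Function

namespace Groth.Agent.FlatStage

open FlatInjCoker

variable {R R' S₀ S : Type u} [CommRing R] [CommRing R'] [CommRing S₀] [CommRing S]
  [Algebra R R'] [Algebra R S₀] [Algebra R S] [Algebra R' S] [Algebra S₀ S]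
  [IsScalarTower R R' S] [IsScalarTower R S₀ S] [Algebra.IsPushout R R' S₀ S]
  {M N : Type u} [AddCommGroup M] [Module S₀ M] [AddCommGroup N] [Module S₀ N] [Module R N] [IsScalarTower R S₀ N]
  (u : M →ₗ[S₀] N)

omit [CommRing R] [CommRing R'] in
/-- The cokernel commutes with base change. -/
theorem exists_coker_baseChange_equiv {A B : Type u} [CommRing A] [CommRing B] [Algebra A B]
    {P Q : Type u} [AddCommGroup P] [Module A P] [AddCommGroup Q] [Module A Q] (v : P →ₗ[A] Q) :
    Nonempty (((B ⊗[A] Q) ⧸ LinearMap.range (v.baseChange B)) ≃ₗ[B] B ⊗[A] (Q ⧸ LinearMap.range v)) := by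
  have hex : Exact (v.baseChange B) ((LinearMap.range v).mkQ.baseChange B) :=
    lTensor_exact B (LinearMap.exact_map_mkQ_range v) (Submodule.mkQ_surjective _)
  exact ⟨Submodule.quotEquivOfEq _ _ (LinearMap.exact_iff.1 hex).symm ≪≫ₗ
    LinearMap.quotKerEquivOfSurjective _ (LinearMap.lTensor_surjective B (Submodule.mkQ_surjective _))⟩

/-- Flatness of the cokernel of a base change, read on the base change of the cokernel. -/
theorem flat_coker_baseChange_iff (q : Ideal S) [q.IsPrime] :
    Module.Flat R' (LocalizedModule q.primeCompl ((S ⊗[S₀] N) ⧸ LinearMap.range (u.baseChange S))) ↔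
      Module.Flat R' (FlatLocus.Loc S₀ (N ⧸ LinearMap.range u) q) := by
  obtain ⟨e⟩ := exists_coker_baseChange_equiv (B := S) u
  exact ⟨fun _ => FlatLocus.flat_localized_congr e q.primeCompl,
    fun _ => FlatLocus.flat_localized_congr e.symm q.primeCompl⟩

variable (R R') in
include R' in
/-- Where the cokernel is flat, the kernel commutes with base change. -/
theorem exists_smul_mem_ker (q : Ideal S) [q.IsPrime]
    [Module.Flat R (LocalizedModule (q.comap (algebraMap S₀ S)).primeCompl (N ⧸ LinearMap.range u))]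
    (z : S ⊗[S₀] M) (hz : u.baseChange S z = 0) :
    ∃ t : S₀, algebraMap S₀ S t ∉ q ∧
      algebraMap S₀ S t • z ∈ LinearMap.range ((LinearMap.ker u).subtype.baseChange S) := by
  letI : Module R M := Module.compHom M (algebraMap R S₀)
  haveI : IsScalarTower R S₀ M := IsScalarTower.of_compHom _ _ M
  let q₀ := q.comap (algebraMap S₀ S)
  let I := LinearMap.range u
  let ι : I →ₗ[S₀] N := I.subtype
  let ρ : M →ₗ[S₀] I := u.rangeRestrict
  let gI := LocalizedModule.mkLinearMap q₀.primeCompl I
  let gN := LocalizedModule.mkLinearMap q₀.primeCompl N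
  let gC := LocalizedModule.mkLinearMap q₀.primeCompl (N ⧸ I)
  let ιq := IsLocalizedModule.map q₀.primeCompl gI gN ι
  let πq := IsLocalizedModule.map q₀.primeCompl gN gC I.mkQ
  have hex : Exact ι I.mkQ := LinearMap.exact_iff.2 (by rw [Submodule.ker_mkQ, Submodule.range_subtype])
  have hι : Injective ιq := IsLocalizedModule.map_injective q₀.primeCompl gI gN ι I.injective_subtype
  have h := FlatFibrePD.lTensor_injective_of_pushout (R₀ := R) (R := R') (S₀ := S₀) (S := S) hι
    (IsLocalizedModule.map_exact _ gI gN gC ι _ hex)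
    (IsLocalizedModule.map_surjective _ gN gC _ (Submodule.mkQ_surjective _))
  have hnat : ιq.lTensor S ∘ₗ gI.lTensor S = gN.lTensor S ∘ₗ ι.lTensor S := by
    rw [← LinearMap.lTensor_comp, ← LinearMap.lTensor_comp]
    congr 1
    exact IsLocalizedModule.map_comp _ _ _ ι
  let w := ρ.lTensor S z
  have hw : ι.lTensor S w = 0 := by
    show (ι.lTensor S ∘ₗ ρ.lTensor S) z = 0
    rw [← LinearMap.lTensor_comp, show ι ∘ₗ ρ = u from LinearMap.ext fun _ => rfl]
    exact hz
  have h0 : gI.lTensor S w = 0 := h <| by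
    rw [map_zero, ← LinearMap.comp_apply, hnat, LinearMap.comp_apply, hw, map_zero]
  have h1 : AlgebraTensorModule.rTensor S₀ S gI (TensorProduct.comm S₀ S I w) = 0 := by
    have : ∀ w, AlgebraTensorModule.rTensor S₀ S gI (TensorProduct.comm S₀ S I w) =
        TensorProduct.comm S₀ S _ (gI.lTensor S w) := by
      intro w
      induction w with
      | zero => simp
      | add a b ha hb => simp only [map_add, ha, hb]
      | tmul a b => simp
    rw [this, h0, map_zero]
  obtain ⟨t, ht⟩ := (IsLocalizedModule.eq_zero_iff q₀.primeCompl _).1 h1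
  have ht' : (t : S₀) • w = 0 := (TensorProduct.comm S₀ S I).injective (by rw [map_smul, map_zero]; exact ht)
  refine ⟨t, fun h => t.2 h, ?_⟩
  have hρ : ρ.lTensor S ((t : S₀) • z) = 0 := by rw [map_smul]; exact ht'
  have hexρ : Exact (LinearMap.ker u).subtype ρ := LinearMap.exact_iff.2 (by
    rw [Submodule.range_subtype, LinearMap.ker_rangeRestrict])
  rw [algebraMap_smul]
  exact (lTensor_exact S hexρ u.surjective_rangeRestrict _).1 hρ

omit [CommRing R] [CommRing R'] in
/-- An element of the base change of a submodule killed near the prime is killed near the prime. -/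
theorem exists_smul_eq_zero_of_mem_range {A B : Type u} [CommRing A] [CommRing B] [Algebra A B]
    {P : Type u} [AddCommGroup P] [Module A P] (K : Submodule A P) (q : Ideal B) [q.IsPrime]
    (hK : ∀ k ∈ K, ∃ s ∉ q, s • ((1 : B) ⊗ₜ[A] k) = 0) (z : B ⊗[A] P)
    (hz : z ∈ LinearMap.range (K.subtype.baseChange B)) : ∃ s ∉ q, s • z = 0 := by
  obtain ⟨y, rfl⟩ := hz
  induction y with
  | zero => exact ⟨1, q.primeCompl.one_mem, by simp⟩
  | tmul b k =>
    obtain ⟨s, hs, h⟩ := hK k.1 k.2
    refine ⟨s, hs, ?_⟩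
    rw [LinearMap.baseChange_tmul, Submodule.subtype_apply,
      show b ⊗ₜ[A] (k : P) = b • ((1 : B) ⊗ₜ[A] (k : P)) by rw [TensorProduct.smul_tmul', smul_eq_mul, mul_one],
      smul_comm, h, smul_zero]
  | add a b ha hb =>
    obtain ⟨s, hs, h⟩ := ha
    obtain ⟨s', hs', h'⟩ := hb
    refine ⟨s * s', q.primeCompl.mul_mem hs hs', ?_⟩
    rw [map_add, smul_add, mul_comm s, mul_smul, h, smul_zero, zero_add, mul_comm, mul_smul, h', smul_zero]

variable (R R') in
include R' in
/-- Kernel elements near the prime, from generators of the kernel. -/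
theorem inj_baseChange_of_gens (q : Ideal S) [q.IsPrime]
    [Module.Flat R (LocalizedModule (q.comap (algebraMap S₀ S)).primeCompl (N ⧸ LinearMap.range u))]
    (T : Set M) (hT : Submodule.span S₀ T = LinearMap.ker u)
    (hkill : ∀ k ∈ T, ∃ s ∉ q, s • ((1 : S) ⊗ₜ[S₀] k) = 0) (z : S ⊗[S₀] M) (hz : u.baseChange S z = 0) :
    ∃ s ∉ q, s • z = 0 := by
  obtain ⟨t, ht, hmem⟩ := exists_smul_mem_ker R R' u q z hz
  have hK : ∀ k ∈ LinearMap.ker u, ∃ s ∉ q, s • ((1 : S) ⊗ₜ[S₀] k) = 0 := by
    intro k hk
    rw [← hT] at hk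
    induction hk using Submodule.span_induction with
    | mem x hx => exact hkill x hx
    | zero => exact ⟨1, q.primeCompl.one_mem, by simp⟩
    | add a b _ _ ha hb =>
      obtain ⟨s, hs, h⟩ := ha
      obtain ⟨s', hs', h'⟩ := hb
      refine ⟨s * s', q.primeCompl.mul_mem hs hs', ?_⟩
      rw [TensorProduct.tmul_add, smul_add, mul_comm s, mul_smul, h, smul_zero, zero_add, mul_comm, mul_smul, h',
        smul_zero]
    | smul a x _ hx =>
      obtain ⟨s, hs, h⟩ := hx
      exact ⟨s, hs, by rw [TensorProduct.tmul_smul, smul_comm, h, smul_zero]⟩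
  obtain ⟨s, hs, h⟩ := exists_smul_eq_zero_of_mem_range _ q hK _ hmem
  exact ⟨s * algebraMap S₀ S t, q.primeCompl.mul_mem hs ht, by rw [mul_smul, h]⟩

/-- Injectivity with flat cokernel at a prime is stable under base change. -/
theorem injFlat_baseChange (q : Ideal S) [q.IsPrime] (q₀ : Ideal S₀) [q₀.IsPrime]
    (hq : q.comap (algebraMap S₀ S) = q₀) (h : InjFlat R u q₀) : InjFlat R' (u.baseChange S) q := by
  subst hq
  obtain ⟨hinj, hflat⟩ := h
  haveI : Module.Flat R (LocalizedModule (q.comap (algebraMap S₀ S)).primeCompl (N ⧸ LinearMap.range u)) := hflat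
  refine ⟨inj_baseChange_of_gens R R' u q (LinearMap.ker u : Set M) (Submodule.span_eq _) fun k hk => ?_, ?_⟩
  · obtain ⟨s, hs, h⟩ := hinj k hk
    refine ⟨algebraMap S₀ S s, hs, ?_⟩
    rw [algebraMap_smul, ← TensorProduct.tmul_smul, h, TensorProduct.tmul_zero]
  · exact (flat_coker_baseChange_iff u q).2 (FlatLocus.flat_loc_of_flat (R := R) q _ le_rfl)

end Groth.Agent.FlatStage
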