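import Groth.Agent.FlatStage.Transfer
import Groth.Agent.LimSch.DescendsFlat

/-!
# Injectivity with flat cokernel descends to a stage of a colimit
-/

set_option autoImplicit false
set_option backward.isDefEq.respectTransparency false
set_option linter.style.haveILetI false

universe u

open TensorProduct Function

namespace Groth.Agent.FlatStage

open FlatInjCoker

attribute [local instance] Algebra.TensorProduct.rightAlgebra

variable {A₀ : Type u} [CommRing A₀] {ι : Type u} [Nonempty ι] {G : ι → Type u}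
  [∀ j, CommRing (G j)] [∀ j, Algebra A₀ (G j)] {A : Type u} [CommRing A] [Algebra A₀ A]
  {g : ∀ j, G j →ₐ[A₀] A} (hd : EtSmColim.Directed g) (hs : ∀ a : A, ∃ j, ∃ x : G j, g j x = a)
  (hk : ∀ j (x : G j), g j x = 0 → ∃ l, ∃ a : EtSmColim.Step g j l, a.hom x = 0)

include hd hs hk

set_option maxHeartbeats 800000 in
set_option synthInstance.maxHeartbeats 100000 in
/-- Descent to a stage from a noetherian model. -/
theorem exists_injFlat_colim_stage_noeth {R₁ : Type u} [CommRing R₁] [IsNoetherianRing R₁] [Algebra R₁ A₀]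
    [Algebra R₁ A] [IsScalarTower R₁ A₀ A] [∀ j, Algebra R₁ (G j)] [∀ j, IsScalarTower R₁ A₀ (G j)]
    {C₀ : Type u} [CommRing C₀] [Algebra R₁ C₀] [Algebra.FiniteType R₁ C₀]
    {M₁ N₁ : Type u} [AddCommGroup M₁] [Module C₀ M₁] [Module R₁ M₁] [IsScalarTower R₁ C₀ M₁] [Module.Finite C₀ M₁]
    [AddCommGroup N₁] [Module C₀ N₁] [Module R₁ N₁] [IsScalarTower R₁ C₀ N₁] [Module.Finite C₀ N₁]
    (u₁ : M₁ →ₗ[C₀] N₁) {C_A : Type u} [CommRing C_A] [Algebra R₁ C_A] [Algebra A C_A] [Algebra C₀ C_A]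
    [IsScalarTower R₁ A C_A] [IsScalarTower R₁ C₀ C_A] [Algebra.IsPushout R₁ A C₀ C_A]
    (q : Ideal C_A) [q.IsPrime] (h : InjFlat A (u₁.baseChange C_A) q) :
    ∃ l, ∀ (Cl : Type u) [CommRing Cl] [Algebra R₁ Cl] [Algebra (G l) Cl] [Algebra C₀ Cl]
      [IsScalarTower R₁ (G l) Cl] [IsScalarTower R₁ C₀ Cl] [Algebra.IsPushout R₁ (G l) C₀ Cl]
      (θ : Cl →+* C_A) (_ : θ.comp (algebraMap (G l) Cl) = (algebraMap A C_A).comp (g l).toRingHom)
      (_ : θ.comp (algebraMap C₀ Cl) = algebraMap C₀ C_A), InjFlat (G l) (u₁.baseChange Cl) (q.comap θ) := by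
  classical
  obtain ⟨s, hs₁⟩ := exists_injFlat_stage (R₁ := R₁) (B := A) (C₀ := C₀) u₁ q h
  let T : Subalgebra R₁ A := Algebra.adjoin R₁ (s : Set A)
  have hft : Algebra.FiniteType R₁ T := Algebra.FiniteType.adjoin_of_finite s.finite_toSet
  have hT := hs₁ T Algebra.subset_adjoin hft
  have : Algebra.FinitePresentation R₁ T := Algebra.FinitePresentation.of_finiteType.mp inferInstance
  obtain ⟨n, π, hπ, K, hK⟩ := ‹Algebra.FinitePresentation R₁ T›
  obtain ⟨i₀⟩ := ‹Nonempty ι›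
  let B := EtSmColim.baseSys (g := g) hs hk
  obtain ⟨j, -, y, hy⟩ := B.lift_finset hd (Finset.univ : Finset (Fin n)) i₀
    fun k => ((π (MvPolynomial.X k) : T) : A)
  have hy' : ∀ k, g j (y k) = ((π (MvPolynomial.X k) : T) : A) := fun k => hy k (Finset.mem_univ k)
  let φ : MvPolynomial (Fin n) R₁ →ₐ[R₁] G j := MvPolynomial.aeval y
  have hφ : ((g j).restrictScalars R₁).comp φ = T.val.comp π :=
    MvPolynomial.algHom_ext fun k => by simp [φ, hy']
  obtain ⟨l, a, ha⟩ := B.kill_finset K (i := j) (fun p => φ p) fun p hp => by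
    have h0 : π p = 0 := RingHom.mem_ker.mp (hK ▸ Ideal.subset_span hp : p ∈ RingHom.ker π.toRingHom)
    show g j (φ p) = 0
    have := AlgHom.congr_fun hφ p
    simp only [AlgHom.comp_apply, AlgHom.restrictScalars_apply, h0, map_zero] at this
    exact this
  let φ' : MvPolynomial (Fin n) R₁ →ₐ[R₁] G l := (a.hom.restrictScalars R₁).comp φ
  have hker : RingHom.ker π.toRingHom ≤ RingHom.ker φ'.toRingHom := by
    rw [← hK, Ideal.span_le]
    exact fun p hp => RingHom.mem_ker.mpr (ha p hp)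
  let e := Ideal.quotientKerAlgEquivOfSurjective hπ
  let ψ : T →ₐ[R₁] G l := (Ideal.Quotient.liftₐ _ φ' fun p hp => RingHom.mem_ker.mp (hker hp)).comp e.symm.toAlgHom
  have hψ : ∀ t : T, g l (ψ t) = t := fun t => by
    obtain ⟨p, rfl⟩ := hπ t
    have hp : e.symm (π p) = Ideal.Quotient.mk _ p := by rw [AlgEquiv.symm_apply_eq]; rfl
    rw [show ψ (π p) = φ' p from by
      show (Ideal.Quotient.liftₐ _ φ' fun p hp => RingHom.mem_ker.mp (hker hp)) (e.symm (π p)) = _
      rw [hp]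
      rfl]
    show g l (a.hom (φ p)) = _
    rw [show g l (a.hom (φ p)) = g j (φ p) from AlgHom.congr_fun a.comm (φ p)]
    exact AlgHom.congr_fun hφ p
  refine ⟨l, fun Cl _ _ _ _ _ _ _ θ h1 h2 => ?_⟩
  letI : Algebra T (G l) := ψ.toRingHom.toAlgebra
  haveI : IsScalarTower R₁ T (G l) := IsScalarTower.of_algebraMap_eq fun x => (ψ.commutes x).symm
  letI : Algebra T Cl := ((algebraMap (G l) Cl).comp ψ.toRingHom).toAlgebra
  haveI : IsScalarTower T (G l) Cl := IsScalarTower.of_algebraMap_eq fun x => rfl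
  let χ : T ⊗[R₁] C₀ →ₐ[R₁] Cl := Algebra.TensorProduct.lift ((IsScalarTower.toAlgHom R₁ (G l) Cl).comp ψ)
    (IsScalarTower.toAlgHom R₁ C₀ Cl) fun _ _ => Commute.all _ _
  letI : Algebra (T ⊗[R₁] C₀) Cl := χ.toRingHom.toAlgebra
  haveI : IsScalarTower T (T ⊗[R₁] C₀) Cl := IsScalarTower.of_algebraMap_eq (R := T) (S := T ⊗[R₁] C₀) (A := Cl) fun x => by
    simp [χ, RingHom.algebraMap_toAlgebra]
  haveI : IsScalarTower C₀ (T ⊗[R₁] C₀) Cl := IsScalarTower.of_algebraMap_eq (R := C₀) (S := T ⊗[R₁] C₀) (A := Cl) fun x => by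
    simp [χ, RingHom.algebraMap_toAlgebra]
  haveI : IsScalarTower R₁ (T ⊗[R₁] C₀) Cl := IsScalarTower.of_algebraMap_eq fun x => (χ.commutes x).symm
  haveI : Algebra.IsPushout T (G l) (T ⊗[R₁] C₀) Cl := (Algebra.IsPushout.comp_iff R₁ T C₀ (T ⊗[R₁] C₀)).1 inferInstance
  have hq : (q.comap θ).comap (algebraMap (T ⊗[R₁] C₀) Cl) = q.comap (FlatLocus.stageMap C₀ C_A T).toRingHom := by
    have : θ.comp χ.toRingHom = (FlatLocus.stageMap C₀ C_A T).toRingHom := by
      refine RingHom.ext fun z => ?_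
      induction z with
      | zero => simp
      | add x y hx hy => rw [map_add, map_add, hx, hy]
      | tmul t p =>
        have e1 : θ (algebraMap (G l) Cl (ψ t)) = algebraMap A C_A (t : A) := by
          rw [← hψ t]; exact RingHom.congr_fun h1 (ψ t)
        have e2 : θ (algebraMap C₀ Cl p) = algebraMap C₀ C_A p := RingHom.congr_fun h2 p
        simp [χ, FlatLocus.stageMap, map_mul, e1, e2]
    show Ideal.comap χ.toRingHom (Ideal.comap θ q) = _
    rw [Ideal.comap_comap, this]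
  exact injFlat_trans (R₁ := R₁) (T := T) (P := T ⊗[R₁] C₀) u₁ (q.comap θ) _ hq hT

end Groth.Agent.FlatStage
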