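import Groth.Agent.FlatStage.Model
import Groth.Agent.FlatStage.Colim
import Groth.Agent.LimSch.DescendsFlat

/-!
# Injectivity with flat cokernel descends to a stage of a colimit
-/

set_option autoImplicit false
set_option linter.style.haveILetI false

universe u

open TensorProduct Function

namespace Groth.Agent.FlatStage

open FlatInjCoker

attribute [local instance] Algebra.TensorProduct.rightAlgebra MvPolynomial.algebraMvPolynomial

variable {A₀ : Type u} [CommRing A₀] {ι : Type u} [Nonempty ι] {G : ι → Type u}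
  [∀ j, CommRing (G j)] [∀ j, Algebra A₀ (G j)] {A : Type u} [CommRing A] [Algebra A₀ A]
  {g : ∀ j, G j →ₐ[A₀] A} (hd : EtSmColim.Directed g) (hs : ∀ a : A, ∃ j, ∃ x : G j, g j x = a)
  (hk : ∀ j (x : G j), g j x = 0 → ∃ l, ∃ a : EtSmColim.Step g j l, a.hom x = 0)

include hd hs hk

set_option maxHeartbeats 800000 in
set_option synthInstance.maxHeartbeats 100000 in
/-- Descent to a stage over a polynomial ring. -/
theorem exists_injFlat_colim_stage_mvPolynomial (d : ℕ) {M N : Type u} [AddCommGroup M]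
    [Module (MvPolynomial (Fin d) A₀) M] [Module.FinitePresentation (MvPolynomial (Fin d) A₀) M]
    [AddCommGroup N] [Module (MvPolynomial (Fin d) A₀) N] [Module A₀ N] [IsScalarTower A₀ (MvPolynomial (Fin d) A₀) N]
    [Module.FinitePresentation (MvPolynomial (Fin d) A₀) N]
    (u : M →ₗ[MvPolynomial (Fin d) A₀] N) (q : Ideal (MvPolynomial (Fin d) A)) [q.IsPrime]
    (h : InjFlat A (u.baseChange (MvPolynomial (Fin d) A)) q) :
    ∃ j, InjFlat (G j) (u.baseChange (MvPolynomial (Fin d) (G j)))
      (q.comap (MvPolynomial.map (σ := Fin d) (g j).toRingHom)) := by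
  obtain ⟨R₁, _, M₁, _, _, _, N₁, _, _, _, u₁, eM, eN, hcomm⟩ := exists_map_model d u
  haveI : IsNoetherianRing R₁ := Algebra.FiniteType.isNoetherianRing ℤ R₁
  letI : Module R₁ M₁ := Module.compHom M₁ (algebraMap R₁ (MvPolynomial (Fin d) R₁))
  haveI : IsScalarTower R₁ (MvPolynomial (Fin d) R₁) M₁ := IsScalarTower.of_compHom _ _ M₁
  letI : Module R₁ N₁ := Module.compHom N₁ (algebraMap R₁ (MvPolynomial (Fin d) R₁))
  haveI : IsScalarTower R₁ (MvPolynomial (Fin d) R₁) N₁ := IsScalarTower.of_compHom _ _ N₁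
  have htow : ∀ (B : Type u) [CommRing B] [Algebra A₀ B],
      IsScalarTower (MvPolynomial (Fin d) R₁) (MvPolynomial (Fin d) A₀) (MvPolynomial (Fin d) B) := by
    intro B _ _
    haveI : IsScalarTower R₁ A₀ B := IsScalarTower.of_algebraMap_eq fun x => rfl
    refine IsScalarTower.of_algebraMap_eq fun x => ?_
    show MvPolynomial.map (algebraMap R₁ B) x = MvPolynomial.map (algebraMap A₀ B) (MvPolynomial.map (algebraMap R₁ A₀) x)
    rw [MvPolynomial.map_map, ← IsScalarTower.algebraMap_eq]
  haveI := htow A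
  have h1 : InjFlat A (u₁.baseChange (MvPolynomial (Fin d) A)) q := (injFlat_cancel_iff eM eN hcomm q).2 h
  obtain ⟨l, hl⟩ := exists_injFlat_colim_stage_noeth hd hs hk (R₁ := R₁) (C₀ := MvPolynomial (Fin d) R₁)
    u₁ q h1
  refine ⟨l, ?_⟩
  haveI := htow (G l)
  refine (injFlat_cancel_iff eM eN hcomm _).1 (hl (MvPolynomial (Fin d) (G l)) (MvPolynomial.map (g l).toRingHom) ?_ ?_)
  · exact RingHom.ext fun x => MvPolynomial.map_C _ x
  · refine RingHom.ext fun x => ?_
    show MvPolynomial.map (g l).toRingHom (MvPolynomial.map (algebraMap R₁ (G l)) x) = MvPolynomial.map (algebraMap R₁ A) x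
    rw [MvPolynomial.map_map]
    congr 2
    exact ((g l).restrictScalars R₁).comp_algebraMap

set_option maxHeartbeats 400000 in
set_option synthInstance.maxHeartbeats 200000 in
/-- Descent to a stage. -/
theorem exists_injFlat_colim_stage (C : Type u) [CommRing C] [Algebra A₀ C] [Algebra.FinitePresentation A₀ C]
    {M N : Type u} [AddCommGroup M] [Module C M] [Module.FinitePresentation C M]
    [AddCommGroup N] [Module C N] [Module A₀ N] [IsScalarTower A₀ C N] [Module.FinitePresentation C N]
    (u : M →ₗ[C] N) (C_A : Type u) [CommRing C_A] [Algebra A₀ C_A] [Algebra A C_A] [Algebra C C_A]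
    [IsScalarTower A₀ A C_A] [IsScalarTower A₀ C C_A] [Algebra.IsPushout A₀ A C C_A]
    (q : Ideal C_A) [q.IsPrime] (h : InjFlat A (u.baseChange C_A) q) :
    ∃ j, ∀ (Cj : Type u) [CommRing Cj] [Algebra A₀ Cj] [Algebra (G j) Cj] [Algebra C Cj]
      [IsScalarTower A₀ (G j) Cj] [IsScalarTower A₀ C Cj] [Algebra.IsPushout A₀ (G j) C Cj]
      (ψ : Cj →+* C_A) (_ : ψ.comp (algebraMap (G j) Cj) = (algebraMap A C_A).comp (g j).toRingHom)
      (_ : ψ.comp (algebraMap C Cj) = algebraMap C C_A), InjFlat (G j) (u.baseChange Cj) (q.comap ψ) := by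
  obtain ⟨d, φ, hφ, hker⟩ := Algebra.FinitePresentation.out (R := A₀) (A := C)
  letI : Algebra (MvPolynomial (Fin d) A₀) C := φ.toRingHom.toAlgebra
  haveI : IsScalarTower A₀ (MvPolynomial (Fin d) A₀) C := IsScalarTower.of_algebraMap_eq fun x => (φ.commutes x).symm
  letI : Module (MvPolynomial (Fin d) A₀) M := Module.compHom M φ.toRingHom
  haveI : IsScalarTower (MvPolynomial (Fin d) A₀) C M := IsScalarTower.of_compHom _ _ M
  letI : Module (MvPolynomial (Fin d) A₀) N := Module.compHom N φ.toRingHom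
  haveI : IsScalarTower (MvPolynomial (Fin d) A₀) C N := IsScalarTower.of_compHom _ _ N
  haveI : IsScalarTower A₀ (MvPolynomial (Fin d) A₀) N := IsScalarTower.of_algebraMap_smul fun x z => by
    rw [← algebraMap_smul C (algebraMap A₀ (MvPolynomial (Fin d) A₀) x) z, ← IsScalarTower.algebraMap_apply,
      algebraMap_smul]
  haveI : Module.FinitePresentation (MvPolynomial (Fin d) A₀) C :=
    Module.finitePresentation_of_surjective (Algebra.linearMap (MvPolynomial (Fin d) A₀) C) hφ (by exact hker)
  haveI : Module.FinitePresentation (MvPolynomial (Fin d) A₀) M := Module.FinitePresentation.trans _ M C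
  haveI : Module.FinitePresentation (MvPolynomial (Fin d) A₀) N := Module.FinitePresentation.trans _ N C
  -- the comparison at any base change
  have key : ∀ (B C_B : Type u) [CommRing B] [CommRing C_B] [Algebra A₀ B] [Algebra A₀ C_B] [Algebra B C_B]
      [Algebra C C_B] [IsScalarTower A₀ B C_B] [IsScalarTower A₀ C C_B] [Algebra.IsPushout A₀ B C C_B]
      (θ : MvPolynomial (Fin d) B →+* C_B),
      θ = MvPolynomial.eval₂Hom (algebraMap B C_B) (fun k => algebraMap C C_B (φ (MvPolynomial.X k))) →
      ∀ (q : Ideal C_B) [q.IsPrime],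
      (InjFlat B ((u.restrictScalars (MvPolynomial (Fin d) A₀)).baseChange (MvPolynomial (Fin d) B)) (q.comap θ) ↔
        InjFlat B (u.baseChange C_B) q) := by
    intro B C_B _ _ _ _ _ _ _ _ hpo θ hθ q _
    letI : Algebra (MvPolynomial (Fin d) B) C_B := θ.toAlgebra
    haveI : IsScalarTower B (MvPolynomial (Fin d) B) C_B := IsScalarTower.of_algebraMap_eq fun x => by
      rw [RingHom.algebraMap_toAlgebra, hθ]
      simp
    haveI : IsScalarTower A₀ (MvPolynomial (Fin d) B) C_B := IsScalarTower.of_algebraMap_eq fun x => by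
      rw [IsScalarTower.algebraMap_apply A₀ B (MvPolynomial (Fin d) B),
        ← IsScalarTower.algebraMap_apply B (MvPolynomial (Fin d) B) C_B, ← IsScalarTower.algebraMap_apply]
    letI : Algebra (MvPolynomial (Fin d) A₀) C_B := ((algebraMap C C_B).comp φ.toRingHom).toAlgebra
    haveI : IsScalarTower (MvPolynomial (Fin d) A₀) C C_B := IsScalarTower.of_algebraMap_eq fun x => rfl
    haveI : IsScalarTower A₀ (MvPolynomial (Fin d) A₀) C_B := IsScalarTower.of_algebraMap_eq fun x => by
      rw [IsScalarTower.algebraMap_apply A₀ C C_B, RingHom.algebraMap_toAlgebra]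
      exact congrArg (algebraMap C C_B) (φ.commutes x).symm
    haveI : IsScalarTower (MvPolynomial (Fin d) A₀) (MvPolynomial (Fin d) B) C_B := IsScalarTower.of_algebraMap_eq' (by
      refine MvPolynomial.ringHom_ext (fun x => ?_) (fun k => ?_)
      · show algebraMap C C_B (φ (MvPolynomial.C x)) = θ (MvPolynomial.map (algebraMap A₀ B) (MvPolynomial.C x))
        rw [MvPolynomial.map_C, hθ, MvPolynomial.eval₂Hom_C, ← MvPolynomial.algebraMap_eq, φ.commutes,
          ← IsScalarTower.algebraMap_apply, ← IsScalarTower.algebraMap_apply]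
      · show algebraMap C C_B (φ (MvPolynomial.X k)) = θ (MvPolynomial.map (algebraMap A₀ B) (MvPolynomial.X k))
        rw [MvPolynomial.map_X, hθ, MvPolynomial.eval₂Hom_X'])
    haveI : Algebra.IsPushout (MvPolynomial (Fin d) A₀) C (MvPolynomial (Fin d) B) C_B :=
      (Algebra.IsPushout.comp_iff A₀ (MvPolynomial (Fin d) A₀) B (MvPolynomial (Fin d) B)).1 hpo.symm
    haveI : Algebra.IsPushout (MvPolynomial (Fin d) A₀) (MvPolynomial (Fin d) B) C C_B := .symm ‹_›
    refine injFlat_surjective_iff (fun z => ?_) u q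
    obtain ⟨T, rfl⟩ := FlatLocus.exists_sum_eq hpo z
    choose pre hpre using hφ
    refine ⟨∑ p ∈ T, MvPolynomial.C p.1 * algebraMap _ _ (pre p.2), ?_⟩
    rw [map_sum]
    refine Finset.sum_congr rfl fun p _ => ?_
    rw [map_mul, ← IsScalarTower.algebraMap_apply (MvPolynomial (Fin d) A₀) (MvPolynomial (Fin d) B) C_B,
      IsScalarTower.algebraMap_apply (MvPolynomial (Fin d) A₀) C C_B,
      show algebraMap (MvPolynomial (Fin d) A₀) C (pre p.2) = p.2 from hpre p.2, ← MvPolynomial.algebraMap_eq,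
      ← IsScalarTower.algebraMap_apply B]
  obtain ⟨j, hj⟩ := exists_injFlat_colim_stage_mvPolynomial hd hs hk d (u.restrictScalars (MvPolynomial (Fin d) A₀))
    _ ((key A C_A _ rfl q).2 h)
  refine ⟨j, fun Cj _ _ _ _ _ _ _ ψ h1 h2 => ?_⟩
  refine (key (G j) Cj _ rfl (q.comap ψ)).1 ?_
  have : (MvPolynomial.eval₂Hom (algebraMap A C_A) (fun k => algebraMap C C_A (φ (MvPolynomial.X k)))).comp
      (MvPolynomial.map (g j).toRingHom) =
      ψ.comp (MvPolynomial.eval₂Hom (algebraMap (G j) Cj) (fun k => algebraMap C Cj (φ (MvPolynomial.X k)))) := by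
    refine MvPolynomial.ringHom_ext (fun x => ?_) (fun k => ?_)
    · simpa using (RingHom.congr_fun h1 x).symm
    · simp [← RingHom.congr_fun h2 (φ (MvPolynomial.X k))]
  simp only [Ideal.comap_comap] at hj ⊢
  simp only [← this]
  exact hj

end Groth.Agent.FlatStage
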