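import Groth.Prelude.Def_FlatCA
import Groth.Agent.EtSmColim.Basic

/-!
# Directed colimits of rings as systems of algebras
-/

set_option autoImplicit false

universe u

namespace Groth.Agent.FlatStage

variable {A₀ : Type u} [CommRing A₀] {ι : Type u} [Preorder ι] {G : ι → Type u} [∀ i, CommRing (G i)]
  [∀ i, Algebra A₀ (G i)] {A : Type u} [CommRing A] [Algebra A₀ A] [∀ i, Algebra (G i) A]
  [∀ i, IsScalarTower A₀ (G i) A]

/-- A directed colimit of rings gives a system in the sense of `EtSmColim`. -/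
theorem directed_of_isDirectedColimitRing {g : ∀ i j, i ≤ j → G i →+* G j}
    (hg : ∀ i j (h : i ≤ j), (g i j h).comp (algebraMap A₀ (G i)) = algebraMap A₀ (G j))
    (hc : FlatCA.IsDirectedColimitRing G g A) :
    EtSmColim.Directed (G := G) (fun i => IsScalarTower.toAlgHom A₀ (G i) A) ∧
      (∀ a : A, ∃ i, ∃ x : G i, IsScalarTower.toAlgHom A₀ (G i) A x = a) ∧
      (∀ i (x : G i), IsScalarTower.toAlgHom A₀ (G i) A x = 0 →
        ∃ j, ∃ a : EtSmColim.Step (G := G) (fun i => IsScalarTower.toAlgHom A₀ (G i) A) i j, a.hom x = 0) := by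
  obtain ⟨hdir, -, -, -, hcomm, hsurj, hker⟩ := hc
  let step : ∀ {i j : ι}, i ≤ j → EtSmColim.Step (G := G) (fun i => IsScalarTower.toAlgHom A₀ (G i) A) i j :=
    fun {i j} h => ⟨{ toRingHom := g i j h, commutes' := fun r => RingHom.congr_fun (hg i j h) r },
      AlgHom.ext fun x => RingHom.congr_fun (hcomm i j h) x⟩
  refine ⟨fun i j => ?_, hsurj, fun i x hx => ?_⟩
  · obtain ⟨k, hik, hjk⟩ := hdir.directed i j
    exact ⟨k, ⟨step hik⟩, ⟨step hjk⟩⟩
  · obtain ⟨j, h, hj⟩ := hker i x hx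
    exact ⟨j, step h, hj⟩

end Groth.Agent.FlatStage
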