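import Groth.Agent.FlatStage.Scheme
import Groth.Agent.FlatOverBC.Scheme
import Groth.Agent.FlatOverBC.Open
import Groth.Agent.ModStA.Fib

/-!
# Flatness of a module on a limit of schemes comes from a stage
-/

set_option autoImplicit false
set_option backward.isDefEq.respectTransparency false
set_option linter.style.haveILetI false

noncomputable section

universe u

open CategoryTheory Limits AlgebraicGeometry
open Groth.Agent.FlatFunLib Groth.Agent.LimSch

namespace Groth.Agent.FlatStage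

/-- Flatness at a point, along a square and a factorisation of the map to the original scheme. -/
theorem isFlatOverAt_of_square {X₀ A B A' B' : Scheme.{u}} {a : A ⟶ B} {a' : A' ⟶ B'} {w : A' ⟶ A} {v : B' ⟶ B}
    (hsq : IsPullback w a' a v) (F : X₀.Modules) {p : A ⟶ X₀} {p' : A' ⟶ X₀} (hp : w ≫ p = p') (x : A')
    (h : FlatMod.IsFlatOverAt a ((Scheme.Modules.pullback p).obj F) (w x)) :
    FlatMod.IsFlatOverAt a' ((Scheme.Modules.pullback p').obj F) x := by
  subst hp
  exact isFlatOverAt_congr_iso a' ((Scheme.Modules.pullbackComp w p).app F) x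
    (FlatOverBC.isFlatOverAt_baseChange hsq _ x h)

variable {I : Type u} [SmallCategory I] [IsCofiltered I] (D : I ⥤ Scheme.{u}) (c : Cone D) (hc : IsLimit c)
  [∀ (i j : I) (φ : i ⟶ j), IsAffineHom (D.map φ)] {i : I} {X₀ : Scheme.{u}} [CompactSpace X₀] (f₀ : X₀ ⟶ D.obj i)
  [LocallyOfFinitePresentation f₀] {X : Scheme.{u}} {qX : X ⟶ X₀} {f : X ⟶ c.pt}
  (hX : IsPullback qX f f₀ (c.π.app i))

include hc hX in
/-- Flatness over the limit comes from a stage, over the bases. -/
theorem exists_stage_flat_global {F : X₀.Modules} [F.IsQuasicoherent] (hF : CohB1.IsFP F)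
    (h : FlatMod.IsFlatOver f ((Scheme.Modules.pullback qX).obj F)) :
    ∃ j : Over i, ∀ (Xj : Scheme.{u}) (pX : Xj ⟶ X₀) (fj : Xj ⟶ D.obj j.left)
      (_ : IsPullback pX fj f₀ (D.map j.hom)),
      FlatMod.IsFlatOver fj ((Scheme.Modules.pullback pX).obj F) := by
  classical
  have : ∀ {a b : Over i} (u : a ⟶ b), IsAffineHom ((bcDiag D i f₀).map u) := fun u => inferInstance
  let c' := bcCone D c i f₀ f qX hX.flip
  let hc' : IsLimit c' := isLimitBcCone D c i f₀ hc f qX hX.flip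
  let pr : ∀ j : Over i, (bcDiag D i f₀).obj j ⟶ X₀ := fun j => (bcSnd D i f₀).app j
  let a : ∀ j : Over i, (bcDiag D i f₀).obj j ⟶ D.obj j.left := fun j => (bcFst D i f₀).app j
  have hsq : ∀ j, IsPullback (pr j) (a j) f₀ (D.map j.hom) := fun j => (isPullback_bcDiag D i f₀ j).flip
  have hlfp : ∀ j, LocallyOfFinitePresentation (a j) := fun j =>
    MorphismProperty.of_isPullback (hsq j) ‹_›
  haveI : ∀ j, ((Scheme.Modules.pullback (pr j)).obj F).IsQuasicoherent := fun j =>
    QCohPull.isQuasicoherent_pullback (pr j) F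
  let U : ∀ j : Over i, ((bcDiag D i f₀).obj j).Opens := fun j =>
    ⟨{y | FlatMod.IsFlatOverAt (a j) ((Scheme.Modules.pullback (pr j)).obj F) y},
      @FlatOverBC.isOpen_isFlatOverAt _ _ (a j) (hlfp j) _ _ (ModStA.isFP_pullback _ hF)⟩
  have hmono : ∀ {j k : Over i} (t : k ⟶ j), (bcDiag D i f₀).map t ⁻¹ᵁ U j ≤ U k := fun {j k} t y hy =>
    isFlatOverAt_of_square (isPullback_bcDiag_map D i f₀ t) F
      ((bcSnd D i f₀).naturality t |>.trans (Category.comp_id _)) y hy
  have hpt : ∀ x : X, ∃ j, x ∈ c'.π.app j ⁻¹ᵁ U j := fun x => by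
    obtain ⟨j, hj⟩ := exists_stage_flat D c hc f₀ hX hF x (h x)
    exact ⟨j, hj _ (pr j) (a j) (hsq j) (c'.π.app j) (pullback.lift_snd _ _ _) (pullback.lift_fst _ _ _)⟩
  have := isAffineHom_π D c hc i
  have := isAffineHom_left hX
  have : CompactSpace X := QuasiCompact.compactSpace_of_compactSpace qX
  obtain ⟨s, hs⟩ := isCompact_univ.elim_finite_subcover (fun j => ((c'.π.app j ⁻¹ᵁ U j : X.Opens) : Set X))
    (fun j => (c'.π.app j ⁻¹ᵁ U j).2) (fun x _ => Set.mem_iUnion.2 (hpt x))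
  obtain ⟨k, hk⟩ := IsCofiltered.inf_objs_exists s
  have htop : c'.π.app k ⁻¹ᵁ U k = ⊤ := eq_top_iff.mpr fun x _ => by
    obtain ⟨j, hj, hx⟩ := Set.mem_iUnion₂.1 (hs (Set.mem_univ x))
    refine hmono (hk hj).some ?_
    show (c'.π.app k ≫ (bcDiag D i f₀).map (hk hj).some) x ∈ U j
    rw [c'.w]
    exact hx
  obtain ⟨l, t, hl⟩ := exists_map_eq_top (bcDiag D i f₀) c' hc' (i := k) (U k) htop
  refine ⟨l, fun Xj pX fj hj y => ?_⟩
  let w : Xj ⟶ (bcDiag D i f₀).obj l := (hsq l).lift pX fj hj.w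
  have h1 : w ≫ pr l = pX := (hsq l).lift_fst _ _ _
  have h2 : w ≫ a l = fj := (hsq l).lift_snd _ _ _
  have : IsPullback w fj (a l) (𝟙 (D.obj l.left)) := by
    refine IsPullback.of_right (h₁₂ := pr l) (h₂₂ := D.map l.hom) (v₁₃ := f₀) ?_ (by rw [h2, Category.comp_id]) (hsq l)
    rw [h1, Category.id_comp]
    exact hj
  refine isFlatOverAt_of_square this F h1 y ?_
  have : w y ∈ (bcDiag D i f₀).map t ⁻¹ᵁ U k := by rw [hl]; trivial
  exact hmono t this

end Groth.Agent.FlatStage
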