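import Mathlib
import Groth.Agent.FlatInjCoker.Basic

/-!
# A noetherian model of a map of finitely presented modules over a polynomial ring
-/

set_option autoImplicit false
set_option synthInstance.maxHeartbeats 80000
set_option linter.all false

universe u

open TensorProduct Function

namespace Groth.Agent.FlatStage

open FlatInjCoker

attribute [local instance] MvPolynomial.algebraMvPolynomial

set_option maxHeartbeats 1600000 in
/-- A noetherian model of a map of finitely presented modules over a polynomial ring. -/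
theorem exists_map_model {R : Type u} [CommRing R] (d : ℕ) {M N : Type u}
    [AddCommGroup M] [Module (MvPolynomial (Fin d) R) M] [Module.FinitePresentation (MvPolynomial (Fin d) R) M]
    [AddCommGroup N] [Module (MvPolynomial (Fin d) R) N] [Module.FinitePresentation (MvPolynomial (Fin d) R) N]
    (u : M →ₗ[MvPolynomial (Fin d) R] N) :
    ∃ (R₁ : Subalgebra ℤ R) (_ : Algebra.FiniteType ℤ R₁) (M₁ : Type u) (_ : AddCommGroup M₁)
      (_ : Module (MvPolynomial (Fin d) R₁) M₁) (_ : Module.Finite (MvPolynomial (Fin d) R₁) M₁)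
      (N₁ : Type u) (_ : AddCommGroup N₁) (_ : Module (MvPolynomial (Fin d) R₁) N₁)
      (_ : Module.Finite (MvPolynomial (Fin d) R₁) N₁) (u₁ : M₁ →ₗ[MvPolynomial (Fin d) R₁] N₁)
      (eM : MvPolynomial (Fin d) R ⊗[MvPolynomial (Fin d) R₁] M₁ ≃ₗ[MvPolynomial (Fin d) R] M)
      (eN : MvPolynomial (Fin d) R ⊗[MvPolynomial (Fin d) R₁] N₁ ≃ₗ[MvPolynomial (Fin d) R] N),
      ∀ x, eN (u₁.baseChange (MvPolynomial (Fin d) R) x) = u (eM x) := by
  classical
  let P := MvPolynomial (Fin d) R
  obtain ⟨m, k, π, g, hπ, hex⟩ := Module.FinitePresentation.exists_fin' P M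
  obtain ⟨n, l, ρ, h, hρ, hex'⟩ := Module.FinitePresentation.exists_fin' P N
  let a : Fin k → Fin m → P := fun j => g (Pi.single j 1)
  let b : Fin l → Fin n → P := fun j => h (Pi.single j 1)
  have hspan : ∀ {m k : ℕ} (g : (Fin k → P) →ₗ[P] (Fin m → P)),
      LinearMap.range g = Submodule.span P (Set.range fun j => g (Pi.single j 1)) := fun g => by
    rw [show LinearMap.range g = (⊤ : Submodule P _).map g from (Submodule.map_top g).symm,
      ← (Pi.basisFun P _).span_eq, Submodule.map_span, ← Set.range_comp]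
    congr 1
    ext j
    simp
  choose c hc using fun i => hρ (u (π (Pi.single i 1)))
  have hrel : ∀ j, (∑ i, a j i • c i) ∈ Submodule.span P (Set.range b) := by
    intro j
    rw [← hspan h, ← hex'.linearMap_ker_eq, LinearMap.mem_ker, map_sum]
    simp only [map_smul, hc]
    rw [← map_zero u, ← hex.apply_apply_eq_zero (Pi.single j 1)]
    conv_rhs => rw [pi_eq_sum_univ' (g (Pi.single j 1)), map_sum, map_sum]
    exact Finset.sum_congr rfl fun i _ => by rw [map_smul, map_smul]
  choose D hD using fun j => (Submodule.mem_span_range_iff_exists_fun P).1 (hrel j)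
  let cs : Finset R :=
    (Finset.univ.biUnion fun j => Finset.univ.biUnion fun i => (a j i).coeffs) ∪
    (Finset.univ.biUnion fun j => Finset.univ.biUnion fun i => (b j i).coeffs) ∪
    (Finset.univ.biUnion fun j => Finset.univ.biUnion fun i => (c j i).coeffs) ∪
    (Finset.univ.biUnion fun j => Finset.univ.biUnion fun i => (D j i).coeffs)
  let R₁ : Subalgebra ℤ R := Algebra.adjoin ℤ (cs : Set R)
  haveI : Algebra.FiniteType ℤ R₁ := Algebra.FiniteType.adjoin_of_finite cs.finite_toSet
  haveI : IsNoetherianRing R₁ := Algebra.FiniteType.isNoetherianRing ℤ R₁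
  have hlift : ∀ f : P, f.coeffs ⊆ cs →
      f ∈ Set.range (MvPolynomial.map (σ := Fin d) (algebraMap R₁ R)) := by
    intro f hf
    rw [MvPolynomial.mem_range_map_iff_coeffs_subset]
    exact fun x hx => ⟨⟨x, Algebra.subset_adjoin (hf hx)⟩, rfl⟩
  choose a₀ ha₀ using fun j i => hlift (a j i) fun x hx =>
    Finset.mem_union_left _ <| Finset.mem_union_left _ <| Finset.mem_union_left _ <|
      Finset.mem_biUnion.2 ⟨j, Finset.mem_univ _, Finset.mem_biUnion.2 ⟨i, Finset.mem_univ _, hx⟩⟩
  choose b₀ hb₀ using fun j i => hlift (b j i) fun x hx =>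
    Finset.mem_union_left _ <| Finset.mem_union_left _ <| Finset.mem_union_right _ <|
      Finset.mem_biUnion.2 ⟨j, Finset.mem_univ _, Finset.mem_biUnion.2 ⟨i, Finset.mem_univ _, hx⟩⟩
  choose c₀ hc₀ using fun j i => hlift (c j i) fun x hx =>
    Finset.mem_union_left _ <| Finset.mem_union_right _ <|
      Finset.mem_biUnion.2 ⟨j, Finset.mem_univ _, Finset.mem_biUnion.2 ⟨i, Finset.mem_univ _, hx⟩⟩
  choose D₀ hD₀ using fun j i => hlift (D j i) fun x hx =>
    Finset.mem_union_right _ <|
      Finset.mem_biUnion.2 ⟨j, Finset.mem_univ _, Finset.mem_biUnion.2 ⟨i, Finset.mem_univ _, hx⟩⟩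
  let P₁ := MvPolynomial (Fin d) R₁
  have hP₁ : Injective (algebraMap P₁ P) := MvPolynomial.map_injective _ Subtype.val_injective
  let M₁ := (Fin m → P₁) ⧸ Submodule.span P₁ (Set.range a₀)
  let N₁ := (Fin n → P₁) ⧸ Submodule.span P₁ (Set.range b₀)
  have hrel₀ : ∀ j, (∑ i, a₀ j i • c₀ i) = ∑ i, D₀ j i • b₀ i := by
    intro j
    funext i'
    apply hP₁
    have := congrFun (hD j) i'
    simp only [Finset.sum_apply, Pi.smul_apply, smul_eq_mul, map_sum, map_mul] at this ⊢
    simp only [show ∀ x, algebraMap P₁ P x = MvPolynomial.map (algebraMap R₁ R) x from fun _ => rfl,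
      ha₀, hb₀, hc₀, hD₀]
    exact this.symm
  let u₁ : M₁ →ₗ[P₁] N₁ := (Submodule.span P₁ (Set.range a₀)).liftQ
    (Fintype.linearCombination P₁ fun i => (Submodule.Quotient.mk (c₀ i) : N₁)) (Submodule.span_le.2 (by
      rintro _ ⟨j, rfl⟩
      rw [SetLike.mem_coe, LinearMap.mem_ker, Fintype.linearCombination_apply]
      rw [show ∑ i, a₀ j i • (Submodule.Quotient.mk (c₀ i) : N₁) =
        (Submodule.span P₁ (Set.range b₀)).mkQ (∑ i, a₀ j i • c₀ i) by
          simp only [map_sum, map_smul, Submodule.mkQ_apply]]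
      rw [hrel₀, Submodule.mkQ_apply, Submodule.Quotient.mk_eq_zero]
      exact Submodule.sum_mem _ fun i _ => Submodule.smul_mem _ _ (Submodule.subset_span ⟨i, rfl⟩)))
  have hkπ : LinearMap.ker π = Submodule.span P (Set.range fun j i => algebraMap P₁ P (a₀ j i)) := by
    rw [hex.linearMap_ker_eq, hspan]
    congr 2
    funext j i
    exact (ha₀ j i).symm
  have hkρ : LinearMap.ker ρ = Submodule.span P (Set.range fun j i => algebraMap P₁ P (b₀ j i)) := by
    rw [hex'.linearMap_ker_eq, hspan]
    congr 2
    funext j i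
    exact (hb₀ j i).symm
  obtain ⟨eM, heM⟩ := exists_coker_equiv π hπ a₀ hkπ
  obtain ⟨eN, heN⟩ := exists_coker_equiv ρ hρ b₀ hkρ
  have hcomm : ∀ x, eN (u₁.baseChange P x) = u (eM x) := by
    have : eN.toLinearMap ∘ₗ u₁.baseChange P = u ∘ₗ eM.toLinearMap := by
      letI : Module P₁ N := Module.compHom N (algebraMap P₁ P)
      haveI : IsScalarTower P₁ P N := IsScalarTower.of_compHom _ _ N
      refine TensorProduct.AlgebraTensorModule.curry_injective (LinearMap.ext_ring ?_)
      refine Submodule.linearMap_qext _ (LinearMap.pi_ext' fun i => LinearMap.ext_ring ?_)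
      simp only [TensorProduct.AlgebraTensorModule.curry_apply, LinearMap.restrictScalars_apply,
        TensorProduct.curry_apply, LinearMap.comp_apply, LinearMap.coe_single, Submodule.mkQ_apply,
        LinearMap.baseChange_tmul, LinearEquiv.coe_coe]
      rw [show u₁ (Submodule.Quotient.mk (Pi.single i 1)) = Submodule.Quotient.mk (c₀ i) from
        (Fintype.linearCombination_apply_single P₁ _ i 1).trans (one_smul _ _)]
      rw [heN, heM]
      rw [show (fun i' => algebraMap P₁ P (c₀ i i')) = c i from funext fun i' => hc₀ i i', hc,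
        show (fun i' => algebraMap P₁ P ((Pi.single i 1 : Fin m → P₁) i')) = (Pi.single i 1 : Fin m → P) from
          funext fun i' => by rcases eq_or_ne i' i with rfl | h <;> simp [*]]
    exact fun x => LinearMap.congr_fun this x
  exact ⟨R₁, inferInstance, M₁, inferInstance, inferInstance, inferInstance, N₁, inferInstance, inferInstance,
    inferInstance, u₁, eM, eN, hcomm⟩


end Groth.Agent.FlatStage
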