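import Groth.Agent.FlatStage.Base
import Groth.Agent.FlatLocus.Open
import Mathlib.Algebra.Colimit.TensorProduct

/-!
# Injectivity with flat cokernel descends to a finitely generated subalgebra
-/

set_option autoImplicit false
set_option backward.isDefEq.respectTransparency false
set_option linter.style.haveILetI false

universe u

open TensorProduct Function

namespace Groth.Agent.FlatStage

open FlatInjCoker

attribute [local instance] Algebra.TensorProduct.rightAlgebra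

section Gens

variable {C₀ R₂ C₂ R' S : Type u} [CommRing C₀] [CommRing R₂] [CommRing C₂] [CommRing R'] [CommRing S]
  [Algebra R₂ C₂] [Algebra C₀ C₂] [SMulCommClass C₀ R₂ C₂] [Algebra R₂ R'] [Algebra R₂ S] [Algebra R' S]
  [Algebra C₂ S] [Algebra C₀ S] [IsScalarTower R₂ R' S] [IsScalarTower R₂ C₂ S] [IsScalarTower C₀ C₂ S]
  [Algebra.IsPushout R₂ R' C₂ S]
  {M N : Type u} [AddCommGroup M] [Module C₀ M] [AddCommGroup N] [Module C₀ N]

/-- The criterion from generators of the kernel at a stage. -/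
theorem injFlat_of_gens (u : M →ₗ[C₀] N) (q : Ideal S) [q.IsPrime]
    [Module.Flat R₂ (FlatLocus.Loc C₀ (N ⧸ LinearMap.range u) (q.comap (algebraMap C₂ S)))]
    (T : Set (C₂ ⊗[C₀] M)) (hT : Submodule.span C₂ T = LinearMap.ker (u.baseChange C₂))
    (hkill : ∀ k ∈ T, ∃ s ∉ q, s • (IsScalarTower.toAlgHom C₀ C₂ S).toLinearMap.rTensor M k = 0) :
    InjFlat R' (u.baseChange S) q := by
  let eM := AlgebraTensorModule.cancelBaseChange C₀ C₂ S S M
  let eN := AlgebraTensorModule.cancelBaseChange C₀ C₂ S S N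
  have hcomm : ∀ x, eN ((u.baseChange C₂).baseChange S x) = u.baseChange S (eM x) := by
    intro x
    induction x with
    | zero => simp
    | add x y hx hy => simp only [map_add, hx, hy]
    | tmul r z =>
      induction z with
      | zero => simp
      | add x y hx hy => simp only [TensorProduct.tmul_add, map_add, hx, hy]
      | tmul c v => simp [eM, eN]
  have hone : ∀ k, eM (1 ⊗ₜ k) = (IsScalarTower.toAlgHom C₀ C₂ S).toLinearMap.rTensor M k := by
    intro k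
    induction k with
    | zero => simp
    | add x y hx hy => rw [TensorProduct.tmul_add, map_add, map_add, hx, hy]
    | tmul c m => simp [eM, Algebra.smul_def]
  haveI : Module.Flat R₂ (LocalizedModule (q.comap (algebraMap C₂ S)).primeCompl
      ((C₂ ⊗[C₀] N) ⧸ LinearMap.range (u.baseChange C₂))) :=
    (flat_coker_baseChange_iff (R' := R₂) u (q.comap (algebraMap C₂ S))).2 ‹_›
  refine InjFlat.congr (R := R') eM eN hcomm ⟨?_, ?_⟩
  · refine inj_baseChange_of_gens R₂ R' (u.baseChange C₂) q T hT fun k hk => ?_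
    obtain ⟨s, hs, h⟩ := hkill k hk
    refine ⟨s, hs, eM.injective ?_⟩
    rw [map_smul, hone, h, map_zero]
  · exact (flat_coker_baseChange_iff (u.baseChange C₂) q).2 (FlatLocus.flat_loc_of_flat (R := R₂) q _ le_rfl)

end Gens

variable {R₁ : Type u} [CommRing R₁] {B : Type u} [CommRing B] [Algebra R₁ B]

/-- An element of a base change to a subalgebra vanishing in the whole algebra vanishes at a bigger one. -/
theorem exists_kill {X : Type u} [AddCommGroup X] [Module R₁ X] (S : Subalgebra R₁ B) (x : S ⊗[R₁] X)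
    (hx : S.val.toLinearMap.rTensor X x = 0) : ∃ s : Finset B, ∀ (S' : Subalgebra R₁ B) (h : S ≤ S'),
      ↑s ⊆ (S' : Set B) → (Subalgebra.inclusion h).toLinearMap.rTensor X x = 0 := by
  classical
  obtain ⟨T, hT⟩ := TensorProduct.exists_finset x
  let N : Submodule R₁ B := Submodule.span R₁ ↑(T.image fun j => (j.1 : B))
  have hN : N.FG := ⟨_, rfl⟩
  have hm : ∀ j ∈ T, (j.1 : B) ∈ N := fun j hj => Submodule.subset_span (Finset.mem_image_of_mem _ hj)
  let x' : N ⊗[R₁] X := ∑ j ∈ T.attach, (⟨j.1.1, hm j.1 j.2⟩ : N) ⊗ₜ j.1.2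
  have hx' : N.subtype.rTensor X x' = 0 := by
    rw [← hx, hT, map_sum, map_sum, ← T.sum_attach]
    exact Finset.sum_congr rfl fun j _ => rfl
  obtain ⟨P, ⟨gens, hgens⟩, hle, hP⟩ := hN.exists_rTensor_fg_inclusion_eq (x := x') (y := 0) (by rw [hx', map_zero])
  refine ⟨gens, fun S' h hS' => ?_⟩
  have hPS : P ≤ Subalgebra.toSubmodule S' := by
    rw [← hgens, Submodule.span_le]
    exact hS'
  let ι : P →ₗ[R₁] S' :=
    { toFun := fun p => ⟨p.1, hPS p.2⟩, map_add' := fun _ _ => rfl, map_smul' := fun _ _ => rfl }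
  have : (Subalgebra.inclusion h).toLinearMap.rTensor X x = ι.rTensor X ((Submodule.inclusion hle).rTensor X x') := by
    rw [hT, map_sum, map_sum, map_sum, ← T.sum_attach]
    exact Finset.sum_congr rfl fun j _ => rfl
  rw [this, hP, map_zero, map_zero]

variable {C₀ C_B : Type u} [CommRing C₀] [Algebra R₁ C₀] [CommRing C_B] [Algebra R₁ C_B] [Algebra C₀ C_B]
  [Algebra B C_B] [IsScalarTower R₁ B C_B] [IsScalarTower R₁ C₀ C_B] [Algebra.IsPushout R₁ B C₀ C_B]

variable (C₀) in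
/-- The stage map, linear over `C₀`. -/
noncomputable def stageMapₗ (S : Subalgebra R₁ B) : S ⊗[R₁] C₀ →ₗ[C₀] C_B where
  toFun := FlatLocus.stageMap C₀ C_B S
  map_add' := map_add _
  map_smul' c y := by
    rw [RingHom.id_apply, Algebra.smul_def, map_mul, Algebra.smul_def]
    congr 1
    simp [FlatLocus.stageMap, Algebra.TensorProduct.right_algebraMap_apply]

variable (C₀) in
/-- `S ⊗ M → (S ⊗ C₀) ⊗ M`. -/
noncomputable def theta {S : Type u} [CommRing S] [Algebra R₁ S] (M : Type u) [AddCommGroup M] [Module C₀ M] [Module R₁ M]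
    [IsScalarTower R₁ C₀ M] (C_S : Type u) [CommRing C_S] [Algebra S C_S] [Algebra R₁ C_S] [Algebra C₀ C_S]
    [IsScalarTower R₁ S C_S] [IsScalarTower R₁ C₀ C_S] : S ⊗[R₁] M →ₗ[S] C_S ⊗[C₀] M :=
  LinearMap.liftBaseChange S (((TensorProduct.mk C₀ C_S M) 1).restrictScalars R₁)

section Theta

variable {M : Type u} [AddCommGroup M] [Module C₀ M] [Module R₁ M] [IsScalarTower R₁ C₀ M]

omit [CommRing B] [Algebra R₁ B] in
theorem theta_tmul {S : Type u} [CommRing S] [Algebra R₁ S] {C_S : Type u} [CommRing C_S] [Algebra S C_S]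
    [Algebra R₁ C_S] [Algebra C₀ C_S] [IsScalarTower R₁ S C_S] [IsScalarTower R₁ C₀ C_S] (a : S) (m : M) :
    theta C₀ M C_S (a ⊗ₜ[R₁] m) = algebraMap S C_S a ⊗ₜ[C₀] m := by
  rw [theta, LinearMap.liftBaseChange_tmul]
  show a • ((1 : C_S) ⊗ₜ[C₀] m) = _
  rw [TensorProduct.smul_tmul', Algebra.smul_def, mul_one]

theorem injective_theta : Injective (theta (R₁ := R₁) (S := B) C₀ M C_B) := by
  let e := Algebra.IsPushout.cancelBaseChange R₁ B C₀ C_B M
  have : ∀ x, e (theta C₀ M C_B x) = x := by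
    intro x
    induction x with
    | zero => simp
    | add a b ha hb => rw [map_add, map_add, ha, hb]
    | tmul a m =>
      rw [theta, LinearMap.liftBaseChange_tmul, map_smul]
      show a • e ((1 : C_B) ⊗ₜ[C₀] m) = _
      rw [Algebra.IsPushout.cancelBaseChange_tmul, TensorProduct.smul_tmul', smul_eq_mul, mul_one]
  exact LeftInverse.injective this

theorem surjective_theta (S : Subalgebra R₁ B) : Surjective (theta (R₁ := R₁) (S := S) C₀ M (S ⊗[R₁] C₀)) := by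
  intro z
  induction z with
  | zero => exact ⟨0, map_zero _⟩
  | add a b ha hb =>
    obtain ⟨x, rfl⟩ := ha
    obtain ⟨y, rfl⟩ := hb
    exact ⟨x + y, map_add _ _ _⟩
  | tmul y m =>
    induction y with
    | zero => exact ⟨0, by rw [map_zero, TensorProduct.zero_tmul]⟩
    | add a b ha hb =>
      obtain ⟨x, hx⟩ := ha
      obtain ⟨y, hy⟩ := hb
      exact ⟨x + y, by rw [map_add, hx, hy, TensorProduct.add_tmul]⟩
    | tmul a c =>
      refine ⟨a ⊗ₜ (c • m), ?_⟩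
      rw [theta_tmul, ← TensorProduct.smul_tmul, Algebra.smul_def, Algebra.TensorProduct.right_algebraMap_apply,
        Algebra.TensorProduct.algebraMap_apply, Algebra.TensorProduct.tmul_mul_tmul]
      simp

/-- Vanishing in `C_B ⊗ M` happens at a finite stage. -/
theorem exists_kill_module (S : Subalgebra R₁ B) (z : (S ⊗[R₁] C₀) ⊗[C₀] M)
    (hz : (stageMapₗ C₀ (C_B := C_B) S).rTensor M z = 0) : ∃ s : Finset B, ∀ (S' : Subalgebra R₁ B) (h : S ≤ S'),
      ↑s ⊆ (S' : Set B) → ∀ (φ : S ⊗[R₁] C₀ →ₗ[C₀] S' ⊗[R₁] C₀),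
        (∀ a c, φ (a ⊗ₜ c) = Subalgebra.inclusion h a ⊗ₜ c) → φ.rTensor M z = 0 := by
  obtain ⟨x, rfl⟩ := surjective_theta S z
  have key : ∀ y, (stageMapₗ C₀ (C_B := C_B) S).rTensor M (theta C₀ M (S ⊗[R₁] C₀) y) =
      theta C₀ M C_B (S.val.toLinearMap.rTensor M y) := by
    intro y
    induction y with
    | zero => simp
    | add a b ha hb => simp only [map_add, ha, hb]
    | tmul a m =>
      rw [theta_tmul, LinearMap.rTensor_tmul, LinearMap.rTensor_tmul, theta_tmul,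
        Algebra.TensorProduct.algebraMap_apply]
      simp [stageMapₗ, FlatLocus.stageMap]
  have h0 : S.val.toLinearMap.rTensor M x = 0 := injective_theta (C₀ := C₀) (C_B := C_B) (by rw [map_zero, ← key, hz])
  obtain ⟨s, hs⟩ := exists_kill S x h0
  refine ⟨s, fun S' h hS' φ hφ => ?_⟩
  have key' : ∀ y, φ.rTensor M (theta C₀ M (S ⊗[R₁] C₀) y) =
      theta C₀ M (S' ⊗[R₁] C₀) ((Subalgebra.inclusion h).toLinearMap.rTensor M y) := by
    intro y
    induction y with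
    | zero => simp
    | add a b ha hb => simp only [map_add, ha, hb]
    | tmul a m =>
      rw [theta_tmul, LinearMap.rTensor_tmul, LinearMap.rTensor_tmul, theta_tmul,
        Algebra.TensorProduct.algebraMap_apply, Algebra.TensorProduct.algebraMap_apply]
      simp [hφ]
  rw [key', hs S' h hS', map_zero]

end Theta

variable [IsNoetherianRing R₁] [Algebra.FiniteType R₁ C₀]
  {M₁ N₁ : Type u} [AddCommGroup M₁] [Module C₀ M₁] [Module R₁ M₁] [IsScalarTower R₁ C₀ M₁] [Module.Finite C₀ M₁]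
  [AddCommGroup N₁] [Module C₀ N₁] [Module R₁ N₁] [IsScalarTower R₁ C₀ N₁] [Module.Finite C₀ N₁]

set_option maxHeartbeats 1600000 in
set_option synthInstance.maxHeartbeats 100000 in
/-- Injectivity with flat cokernel at a point descends to a finite stage. -/
theorem exists_injFlat_stage (u : M₁ →ₗ[C₀] N₁) (q : Ideal C_B) [q.IsPrime] (h : InjFlat B (u.baseChange C_B) q) :
    ∃ s : Finset B, ∀ S : Subalgebra R₁ B, ↑s ⊆ (S : Set B) → Algebra.FiniteType R₁ S →
      InjFlat (S := S ⊗[R₁] C₀) (M := (S ⊗[R₁] C₀) ⊗[C₀] M₁) (N := (S ⊗[R₁] C₀) ⊗[C₀] N₁) S (u.baseChange (S ⊗[R₁] C₀)) (q.comap (FlatLocus.stageMap C₀ C_B S).toRingHom) := by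
  classical
  obtain ⟨hinj, hflat⟩ := h
  haveI : Module.Flat B (FlatLocus.Loc C₀ (N₁ ⧸ LinearMap.range u) q) := (flat_coker_baseChange_iff u q).1 hflat
  obtain ⟨s₁, hs₁⟩ := FlatLocus.exists_flat_stage (R := R₁) (C₀ := C₀) (M₀ := N₁ ⧸ LinearMap.range u) (B := B) q
  let S₂ : Subalgebra R₁ B := Algebra.adjoin R₁ (s₁ : Set B)
  have hft₂ : Algebra.FiniteType R₁ S₂ := Algebra.FiniteType.adjoin_of_finite s₁.finite_toSet
  haveI : IsNoetherianRing S₂ := Algebra.FiniteType.isNoetherianRing R₁ S₂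
  haveI : IsNoetherianRing (S₂ ⊗[R₁] C₀) := Algebra.FiniteType.isNoetherianRing S₂ (S₂ ⊗[R₁] C₀)
  haveI hfinM : Module.Finite (S₂ ⊗[R₁] C₀) ((S₂ ⊗[R₁] C₀) ⊗[C₀] M₁) := inferInstance
  haveI := isNoetherian_of_isNoetherianRing_of_finite (S₂ ⊗[R₁] C₀) ((S₂ ⊗[R₁] C₀) ⊗[C₀] M₁)
  obtain ⟨T, hT⟩ : (LinearMap.ker (u.baseChange (S₂ ⊗[R₁] C₀))).FG := IsNoetherian.noetherian _
  let j := stageMapₗ C₀ (C_B := C_B) S₂
  have hu : ∀ k, u.baseChange C_B (j.rTensor M₁ k) = j.rTensor N₁ (u.baseChange (S₂ ⊗[R₁] C₀) k) := by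
    intro k
    induction k with
    | zero => simp
    | add a b ha hb => simp only [map_add, ha, hb]
    | tmul c m => simp
  have hk : ∀ k : {k // k ∈ T}, ∃ t : C_B, t ∉ q ∧ t • j.rTensor M₁ k.1 = 0 := fun k =>
    hinj _ (by rw [hu, show u.baseChange (S₂ ⊗[R₁] C₀) k.1 = 0 from LinearMap.mem_ker.1 (hT ▸ Submodule.subset_span k.2), map_zero])
  choose t ht htk using hk
  choose E hE using fun k : {k // k ∈ T} => FlatLocus.exists_sum_eq ‹Algebra.IsPushout R₁ B C₀ C_B› (t k)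
  let s₀ : Finset B := s₁ ∪ T.attach.biUnion fun k => (E k).image Prod.fst
  let S₃ : Subalgebra R₁ B := Algebra.adjoin R₁ (s₀ : Set B)
  have h23 : S₂ ≤ S₃ := Algebra.adjoin_mono (Finset.coe_subset.2 Finset.subset_union_left)
  let inc : (S₂ ⊗[R₁] C₀) →ₐ[R₁] S₃ ⊗[R₁] C₀ := Algebra.TensorProduct.map (Subalgebra.inclusion h23) (AlgHom.id R₁ C₀)
  let incₗ : (S₂ ⊗[R₁] C₀) →ₗ[C₀] S₃ ⊗[R₁] C₀ :=
    { toFun := inc, map_add' := map_add _
      map_smul' := fun c y => by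
        rw [RingHom.id_apply, Algebra.smul_def, map_mul, Algebra.smul_def]
        congr 1
        }
  have hstage : ∀ y, FlatLocus.stageMap C₀ C_B S₃ (inc y) = FlatLocus.stageMap C₀ C_B S₂ y := by
    intro y
    induction y with
    | zero => simp
    | add a b ha hb => simp only [map_add, ha, hb]
    | tmul a c => simp [inc, FlatLocus.stageMap]
  have hmemE : ∀ k p, p ∈ E k → p.1 ∈ S₃ := fun k p hp => Algebra.subset_adjoin (Finset.mem_union_right _
    (Finset.mem_biUnion.2 ⟨k, Finset.mem_attach _ _, Finset.mem_image_of_mem _ hp⟩))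
  let t₃ : {k // k ∈ T} → S₃ ⊗[R₁] C₀ := fun k => ∑ p ∈ (E k).attach, (⟨p.1.1, hmemE k p.1 p.2⟩ : S₃) ⊗ₜ p.1.2
  have ht₃ : ∀ k, FlatLocus.stageMap C₀ C_B S₃ (t₃ k) = t k := fun k => by
    rw [hE k, map_sum, ← (E k).sum_attach]
    exact Finset.sum_congr rfl fun p _ => by simp [FlatLocus.stageMap]
  have hz : ∀ k, (stageMapₗ C₀ (C_B := C_B) S₃).rTensor M₁ (t₃ k • incₗ.rTensor M₁ k.1) = 0 := fun k => by
    rw [← htk k]
    generalize k.1 = y
    induction y with
    | zero => simp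
    | add a b ha hb => simp only [map_add, smul_add, ha, hb]
    | tmul c m =>
      rw [LinearMap.rTensor_tmul, TensorProduct.smul_tmul', LinearMap.rTensor_tmul, LinearMap.rTensor_tmul,
        TensorProduct.smul_tmul', smul_eq_mul, smul_eq_mul]
      simp [stageMapₗ, j, incₗ, map_mul, ht₃, hstage]
  choose s hs using fun k => exists_kill_module (C_B := C_B) S₃ _ (hz k)
  refine ⟨s₀ ∪ T.attach.biUnion s, fun S hS hfg => ?_⟩
  rw [Finset.coe_union, Set.union_subset_iff] at hS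
  have h3 : S₃ ≤ S := Algebra.adjoin_le hS.1
  let ψ₃ : S₃ ⊗[R₁] C₀ →ₐ[R₁] S ⊗[R₁] C₀ := Algebra.TensorProduct.map (Subalgebra.inclusion h3) (AlgHom.id R₁ C₀)
  let ψ₃ₗ : S₃ ⊗[R₁] C₀ →ₗ[C₀] S ⊗[R₁] C₀ :=
    { toFun := ψ₃, map_add' := map_add _
      map_smul' := fun c y => by
        rw [RingHom.id_apply, Algebra.smul_def, map_mul, Algebra.smul_def]
        congr 1
        }
  letI : Algebra S₂ S := (Subalgebra.inclusion (h23.trans h3)).toRingHom.toAlgebra
  haveI : IsScalarTower R₁ S₂ S := IsScalarTower.of_algebraMap_eq fun x => rfl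
  let ψ : (S₂ ⊗[R₁] C₀) →ₐ[R₁] (S ⊗[R₁] C₀) := ψ₃.comp inc
  have hψ : ∀ a c, ψ (a ⊗ₜ c) = Subalgebra.inclusion (h23.trans h3) a ⊗ₜ c := fun a c => rfl
  letI : Algebra (S₂ ⊗[R₁] C₀) (S ⊗[R₁] C₀) := ψ.toRingHom.toAlgebra
  haveI : IsScalarTower S₂ (S₂ ⊗[R₁] C₀) (S ⊗[R₁] C₀) := IsScalarTower.of_algebraMap_eq (R := S₂) (S := (S₂ ⊗[R₁] C₀)) (A := (S ⊗[R₁] C₀)) fun x => by
    show _ = ψ (x ⊗ₜ 1)
    rw [hψ]
    rfl
  haveI : IsScalarTower C₀ (S₂ ⊗[R₁] C₀) (S ⊗[R₁] C₀) := IsScalarTower.of_algebraMap_eq (R := C₀) (S := (S₂ ⊗[R₁] C₀)) (A := (S ⊗[R₁] C₀)) fun x => by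
    show _ = ψ (1 ⊗ₜ x)
    rw [hψ, map_one]
    rfl
  haveI : IsScalarTower R₁ (S₂ ⊗[R₁] C₀) (S ⊗[R₁] C₀) := IsScalarTower.of_algebraMap_eq fun x => (ψ.commutes x).symm
  haveI : Algebra.IsPushout S₂ S (S₂ ⊗[R₁] C₀) (S ⊗[R₁] C₀) := (Algebra.IsPushout.comp_iff R₁ S₂ C₀ (S₂ ⊗[R₁] C₀)).1 inferInstance
  have hstageS : ∀ y, FlatLocus.stageMap C₀ C_B S (ψ₃ y) = FlatLocus.stageMap C₀ C_B S₃ y := by
    intro y
    induction y with
    | zero => simp
    | add a b ha hb => simp only [map_add, ha, hb]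
    | tmul a c => simp [ψ₃, FlatLocus.stageMap]
  let qS := q.comap (FlatLocus.stageMap C₀ C_B S).toRingHom
  have hcomap : qS.comap (algebraMap (S₂ ⊗[R₁] C₀) (S ⊗[R₁] C₀)) = q.comap (FlatLocus.stageMap C₀ C_B S₂).toRingHom :=
    Ideal.ext fun y => by
      show FlatLocus.stageMap C₀ C_B S (ψ₃ (inc y)) ∈ q ↔ _
      rw [hstageS, hstage]
      rfl
  haveI : Module.Flat S₂ (FlatLocus.Loc C₀ (N₁ ⧸ LinearMap.range u) (qS.comap (algebraMap (S₂ ⊗[R₁] C₀) (S ⊗[R₁] C₀)))) :=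
    hs₁ S₂ Algebra.subset_adjoin hft₂ _ hcomap
  refine injFlat_of_gens (R₂ := S₂) (C₂ := S₂ ⊗[R₁] C₀) (R' := S) u qS T hT fun k hk => ?_
  refine ⟨ψ₃ (t₃ ⟨k, hk⟩), fun h => ht ⟨k, hk⟩ ?_, ?_⟩
  · rw [← ht₃, ← hstageS]
    exact h
  · have hk0 := hs ⟨k, hk⟩ S h3 ((Finset.coe_subset.2 (Finset.subset_biUnion_of_mem s (Finset.mem_attach T ⟨k, hk⟩))).trans hS.2)
      ψ₃ₗ (fun a c => rfl)
    rw [← hk0]
    show _ = ψ₃ₗ.rTensor M₁ (t₃ ⟨k, hk⟩ • incₗ.rTensor M₁ k)
    generalize t₃ ⟨k, hk⟩ = b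
    clear hk hk0
    induction k with
    | zero => simp
    | add a a' ha ha' => simp only [map_add, smul_add, ha, ha']
    | tmul c m =>
      rw [LinearMap.rTensor_tmul, LinearMap.rTensor_tmul, TensorProduct.smul_tmul', TensorProduct.smul_tmul',
        LinearMap.rTensor_tmul, smul_eq_mul, smul_eq_mul]
      congr 1
      exact (map_mul ψ₃ b (inc c)).symm

end Groth.Agent.FlatStage
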