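import Groth.Agent.FlatStage.ColimPoly
import Groth.Agent.FlatStage.Chart
import Groth.Agent.FlatFunLib.LimitHom

/-!
# Injectivity with flat cokernel on a limit of schemes comes from a stage: the affine chart
-/

set_option autoImplicit false
set_option linter.style.haveILetI false

noncomputable section

universe u

open CategoryTheory Limits AlgebraicGeometry Opposite TensorProduct
open Groth.Agent.FlatFunLib Groth.Agent.LimSch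

namespace Groth.Agent.FlatStage

open FlatInjCoker

variable {I : Type u} [SmallCategory I] [IsCofiltered I] (D : I ⥤ Scheme.{u}) (c : Cone D) (hc : IsLimit c)
  [∀ (i j : I) (φ : i ⟶ j), IsAffineHom (D.map φ)] {i : I} {X₀ : Scheme.{u}} (f₀ : X₀ ⟶ D.obj i)
  [LocallyOfFinitePresentation f₀] {X : Scheme.{u}} {qX : X ⟶ X₀} {f : X ⟶ c.pt}
  (hX : IsPullback qX f f₀ (c.π.app i))
  {V : (D.obj i).Opens} (hV : IsAffineOpen V) {W : X₀.Opens} (hW : IsAffineOpen W) (e : W ≤ f₀ ⁻¹ᵁ V)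

include hc hV hW in
set_option maxHeartbeats 800000 in
set_option synthInstance.maxHeartbeats 100000 in
/-- On a chart, the condition on the limit comes from a stage. -/
theorem exists_stage_injFlat {M N : Type u} [AddCommGroup M] [Module Γ(X₀, W) M] [Module.FinitePresentation Γ(X₀, W) M]
    [AddCommGroup N] [Module Γ(X₀, W) N] [Module.FinitePresentation Γ(X₀, W) N] (u : M →ₗ[Γ(X₀, W)] N)
    (hW' : IsAffineOpen (qX ⁻¹ᵁ W)) (x : X) (hx : x ∈ qX ⁻¹ᵁ W) :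
    letI : Algebra Γ(X₀, W) Γ(X, qX ⁻¹ᵁ W) := (qX.app W).hom.toAlgebra
    letI : Algebra Γ(c.pt, c.π.app i ⁻¹ᵁ V) Γ(X, qX ⁻¹ᵁ W) :=
      (f.appLE (c.π.app i ⁻¹ᵁ V) (qX ⁻¹ᵁ W) (preimage_le hX e)).hom.toAlgebra
    InjFlat Γ(c.pt, c.π.app i ⁻¹ᵁ V) (u.baseChange Γ(X, qX ⁻¹ᵁ W)) (hW'.primeIdealOf ⟨x, hx⟩).asIdeal →
    ∃ j : Over i, ∀ (Xj : Scheme.{u}) (pX : Xj ⟶ X₀) (fj : Xj ⟶ D.obj j.left)
      (hj : IsPullback pX fj f₀ (D.map j.hom)) (vX : X ⟶ Xj) (_ : vX ≫ pX = qX)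
      (_ : vX ≫ fj = f ≫ c.π.app j.left) (hWj : IsAffineOpen (pX ⁻¹ᵁ W)) (hx' : vX x ∈ pX ⁻¹ᵁ W),
      letI : Algebra Γ(X₀, W) Γ(Xj, pX ⁻¹ᵁ W) := (pX.app W).hom.toAlgebra
      letI : Algebra Γ(D.obj j.left, D.map j.hom ⁻¹ᵁ V) Γ(Xj, pX ⁻¹ᵁ W) :=
        (fj.appLE (D.map j.hom ⁻¹ᵁ V) (pX ⁻¹ᵁ W) (preimage_le hj e)).hom.toAlgebra
      InjFlat Γ(D.obj j.left, D.map j.hom ⁻¹ᵁ V) (u.baseChange Γ(Xj, pX ⁻¹ᵁ W)) (hWj.primeIdealOf ⟨vX x, hx'⟩).asIdeal := by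
  intro hu
  have := isAffineHom_π D c hc i
  let A₀ := Γ(D.obj i, V)
  letI aC : Algebra A₀ Γ(X₀, W) := (f₀.appLE V W e).hom.toAlgebra
  haveI : Algebra.FinitePresentation A₀ Γ(X₀, W) := Scheme.Hom.finitePresentation_appLE f₀ hV hW e
  letI : Module A₀ N := Module.compHom N (f₀.appLE V W e).hom
  haveI : IsScalarTower A₀ Γ(X₀, W) N := IsScalarTower.of_compHom _ _ N
  letI aX : Algebra A₀ Γ(X, qX ⁻¹ᵁ W) :=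
    ((c.π.app i).app V ≫ f.appLE _ _ (preimage_le hX e)).hom.toAlgebra
  letI : Algebra Γ(X₀, W) Γ(X, qX ⁻¹ᵁ W) := (qX.app W).hom.toAlgebra
  letI : Algebra Γ(c.pt, c.π.app i ⁻¹ᵁ V) Γ(X, qX ⁻¹ᵁ W) :=
    (f.appLE (c.π.app i ⁻¹ᵁ V) (qX ⁻¹ᵁ W) (preimage_le hX e)).hom.toAlgebra
  have hp := isPushout_chart hX hW hV e
  haveI : IsScalarTower A₀ Γ(c.pt, c.π.app i ⁻¹ᵁ V) Γ(X, qX ⁻¹ᵁ W) := IsScalarTower.of_algebraMap_eq' rfl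
  haveI : IsScalarTower A₀ Γ(X₀, W) Γ(X, qX ⁻¹ᵁ W) :=
    IsScalarTower.of_algebraMap_eq' (congrArg CommRingCat.Hom.hom hp.w.symm)
  haveI : Algebra.IsPushout A₀ Γ(c.pt, c.π.app i ⁻¹ᵁ V) Γ(X₀, W) Γ(X, qX ⁻¹ᵁ W) :=
    CommRingCat.isPushout_iff_isPushout.mp hp.flip
  haveI : Nonempty (Over i) := ⟨Over.mk (𝟙 i)⟩
  obtain ⟨j, hj⟩ := exists_injFlat_colim_stage (directed_sec D c V) (surjective_sec D c hc V hV)
    (kill_sec D c hc V hV) Γ(X₀, W) u Γ(X, qX ⁻¹ᵁ W) (hW'.primeIdealOf ⟨x, hx⟩).asIdeal hu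
  refine ⟨j, fun Xj pX fj hsq vX h1 h2 hWj hx' => ?_⟩
  letI : Algebra Γ(X₀, W) Γ(Xj, pX ⁻¹ᵁ W) := (pX.app W).hom.toAlgebra
  letI : Algebra Γ(D.obj j.left, D.map j.hom ⁻¹ᵁ V) Γ(Xj, pX ⁻¹ᵁ W) :=
    (fj.appLE (D.map j.hom ⁻¹ᵁ V) (pX ⁻¹ᵁ W) (preimage_le hsq e)).hom.toAlgebra
  letI : Algebra A₀ Γ(Xj, pX ⁻¹ᵁ W) := ((D.map j.hom).app V ≫ fj.appLE _ _ (preimage_le hsq e)).hom.toAlgebra
  have hpj := isPushout_chart hsq hW hV e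
  haveI : IsScalarTower A₀ Γ(D.obj j.left, D.map j.hom ⁻¹ᵁ V) Γ(Xj, pX ⁻¹ᵁ W) := IsScalarTower.of_algebraMap_eq' rfl
  haveI : IsScalarTower A₀ Γ(X₀, W) Γ(Xj, pX ⁻¹ᵁ W) :=
    IsScalarTower.of_algebraMap_eq' (congrArg CommRingCat.Hom.hom hpj.w.symm)
  haveI : Algebra.IsPushout A₀ Γ(D.obj j.left, D.map j.hom ⁻¹ᵁ V) Γ(X₀, W) Γ(Xj, pX ⁻¹ᵁ W) :=
    CommRingCat.isPushout_iff_isPushout.mp hpj.flip
  have le' : qX ⁻¹ᵁ W ≤ vX ⁻¹ᵁ (pX ⁻¹ᵁ W) := by rw [← Scheme.Hom.comp_preimage, h1]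
  have hq : (hW'.primeIdealOf ⟨x, hx⟩).asIdeal.comap (vX.appLE (pX ⁻¹ᵁ W) (qX ⁻¹ᵁ W) le').hom =
      (hWj.primeIdealOf ⟨vX x, hx'⟩).asIdeal :=
    congrArg PrimeSpectrum.asIdeal (IsAffineOpen.comap_primeIdealOf_appLE (f := vX) _ hWj _ hW' le' hx)
  have := hj Γ(Xj, pX ⁻¹ᵁ W) (vX.appLE (pX ⁻¹ᵁ W) (qX ⁻¹ᵁ W) le').hom ?_ ?_
  · simpa only [hq] using this
  · change (fj.appLE (D.map j.hom ⁻¹ᵁ V) (pX ⁻¹ᵁ W) (preimage_le hsq e) ≫ vX.appLE _ _ le').hom =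
      ((c.π.app j.left).appLE (D.map j.hom ⁻¹ᵁ V) (c.π.app i ⁻¹ᵁ V) (π_preimage_eq j.hom V).ge ≫
        f.appLE (c.π.app i ⁻¹ᵁ V) (qX ⁻¹ᵁ W) (preimage_le hX e)).hom
    rw [Scheme.Hom.appLE_comp_appLE, Scheme.Hom.appLE_comp_appLE]
    simp only [h2]
  · change (pX.app W ≫ vX.appLE _ _ le').hom = (qX.app W).hom
    rw [Scheme.Hom.app_eq_appLE, Scheme.Hom.app_eq_appLE, Scheme.Hom.appLE_comp_appLE]
    simp only [h1]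

end Groth.Agent.FlatStage
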