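import Groth.Agent.FlatStage.Noeth

/-!
# Injectivity with flat cokernel descends to a stage of a colimit
-/

set_option autoImplicit false
set_option backward.isDefEq.respectTransparency false
set_option linter.style.haveILetI false

universe u

open TensorProduct Function

namespace Groth.Agent.FlatStage

open FlatInjCoker

attribute [local instance] Algebra.TensorProduct.rightAlgebra MvPolynomial.algebraMvPolynomial

/-- Replacing a map by a model of it. -/
theorem injFlat_cancel_iff {P₁ P C R' : Type u} [CommRing P₁] [CommRing P] [CommRing C] [CommRing R']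
    [Algebra P₁ P] [Algebra P C] [Algebra P₁ C] [IsScalarTower P₁ P C] [Algebra R' C]
    {M₁ N₁ M N : Type u} [AddCommGroup M₁] [Module P₁ M₁] [AddCommGroup N₁] [Module P₁ N₁]
    [AddCommGroup M] [Module P M] [AddCommGroup N] [Module P N]
    {u₁ : M₁ →ₗ[P₁] N₁} {u : M →ₗ[P] N} (eM : P ⊗[P₁] M₁ ≃ₗ[P] M) (eN : P ⊗[P₁] N₁ ≃ₗ[P] N)
    (h : ∀ x, eN (u₁.baseChange P x) = u (eM x)) (q : Ideal C) [q.IsPrime] :
    InjFlat R' (u₁.baseChange C) q ↔ InjFlat R' (u.baseChange C) q := by
  let EM := (AlgebraTensorModule.cancelBaseChange P₁ P C C M₁).symm.trans (LinearEquiv.baseChange P C _ _ eM)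
  let EN := (AlgebraTensorModule.cancelBaseChange P₁ P C C N₁).symm.trans (LinearEquiv.baseChange P C _ _ eN)
  have hc : ∀ x, EN (u₁.baseChange C x) = u.baseChange C (EM x) := by
    intro x
    induction x with
    | zero => simp
    | add x y hx hy => simp only [map_add, hx, hy]
    | tmul c m =>
      simp [EM, EN, LinearEquiv.baseChange_tmul]
      rw [← h, LinearMap.baseChange_tmul]
  refine ⟨fun hu => InjFlat.congr (R := R') EM EN hc hu, fun hu => InjFlat.congr (R := R') EM.symm EN.symm (fun x => ?_) hu⟩
  rw [LinearEquiv.symm_apply_eq, hc, LinearEquiv.apply_symm_apply]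

/-- A base change of a base change is the base change. -/
theorem injFlat_trans {R₁ T C₀ P R' C : Type u} [CommRing R₁] [CommRing T] [CommRing C₀] [CommRing P] [CommRing R'] [CommRing C]
    [Algebra R₁ T] [Algebra T P] [Algebra R₁ P] [Algebra C₀ P] [SMulCommClass C₀ T P] [Algebra T R'] [Algebra T C]
    [Algebra R' C] [Algebra P C] [Algebra C₀ C] [IsScalarTower T R' C] [IsScalarTower T P C] [IsScalarTower C₀ P C]
    [Algebra.IsPushout T R' P C]
    {M N : Type u} [AddCommGroup M] [Module C₀ M] [AddCommGroup N] [Module C₀ N]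
    (u : M →ₗ[C₀] N) (q : Ideal C) [q.IsPrime] (q₀ : Ideal P) [q₀.IsPrime]
    (hq : q.comap (algebraMap P C) = q₀) (h : InjFlat T (u.baseChange P) q₀) :
    InjFlat R' (u.baseChange C) q :=
  (injFlat_cancel_iff (LinearEquiv.refl P (P ⊗[C₀] M)) (LinearEquiv.refl P (P ⊗[C₀] N)) (fun _ => rfl) q).2
    (injFlat_baseChange (R := T) (R' := R') (u.baseChange P) q q₀ hq h)

/-- Restricting to a ring surjecting onto the scalars. -/
theorem injFlat_restrictScalars_iff {R P S M N : Type u} [CommRing R] [CommRing P] [CommRing S] [Algebra R P]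
    [Algebra P S] [Algebra R S] [IsScalarTower R P S] [AddCommGroup M] [Module S M] [Module P M] [IsScalarTower P S M]
    [AddCommGroup N] [Module S N] [Module P N] [IsScalarTower P S N] [Module R N] [IsScalarTower R S N]
    [IsScalarTower R P N] (hsurj : Surjective (algebraMap P S)) (u : M →ₗ[S] N) (q : Ideal S) [q.IsPrime] :
    InjFlat R (u.restrictScalars P) (q.comap (algebraMap P S)) ↔ InjFlat R u q := by
  let e := (Submodule.quotEquivOfEq _ _ (LinearMap.range_restrictScalars (R := P) u)).trans
    (Submodule.Quotient.restrictScalarsEquiv P (LinearMap.range u))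
  constructor
  · rintro ⟨hinj, hflat⟩
    refine ⟨fun x hx => ?_, ?_⟩
    · obtain ⟨t, ht, htx⟩ := hinj x hx
      exact ⟨algebraMap P S t, ht, by rw [algebraMap_smul]; exact htx⟩
    · rw [FlatLocus.flat_localized_iff_of_surjective (B := R) (P := P) hsurj q]
      haveI : Module.Flat R (LocalizedModule (q.comap (algebraMap P S)).primeCompl
        (N ⧸ LinearMap.range (u.restrictScalars P))) := hflat
      exact FlatLocus.flat_localized_congr (R := R) e (q.comap (algebraMap P S)).primeCompl
  · rintro ⟨hinj, hflat⟩
    refine ⟨fun x hx => ?_, ?_⟩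
    · obtain ⟨s, hs, hsx⟩ := hinj x hx
      obtain ⟨t, rfl⟩ := hsurj s
      exact ⟨t, hs, by rw [← algebraMap_smul S t x]; exact hsx⟩
    · rw [FlatLocus.flat_localized_iff_of_surjective (B := R) (P := P) hsurj q] at hflat
      exact FlatLocus.flat_localized_congr (R := R) e.symm (q.comap (algebraMap P S)).primeCompl

/-- Passing to a polynomial ring surjecting onto the algebra. -/
theorem injFlat_surjective_iff {R P C P' C' : Type u} [CommRing R] [CommRing P] [CommRing C] [CommRing P'] [CommRing C']
    [Algebra P C] [Algebra P P'] [Algebra P C'] [Algebra C C'] [Algebra P' C'] [IsScalarTower P P' C']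
    [IsScalarTower P C C'] [Algebra.IsPushout P P' C C'] [Algebra R P'] [Algebra R C'] [IsScalarTower R P' C']
    {M N : Type u} [AddCommGroup M] [Module C M] [Module P M] [IsScalarTower P C M]
    [AddCommGroup N] [Module C N] [Module P N] [IsScalarTower P C N]
    (hsurj : Surjective (algebraMap P' C')) (u : M →ₗ[C] N) (q : Ideal C') [q.IsPrime] :
    InjFlat R ((u.restrictScalars P).baseChange P') (q.comap (algebraMap P' C')) ↔ InjFlat R (u.baseChange C') q := by
  let eM := Algebra.IsPushout.cancelBaseChange P P' C C' M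
  let eN := Algebra.IsPushout.cancelBaseChange P P' C C' N
  have hc : ∀ x, eN.symm ((u.restrictScalars P).baseChange P' x) = (u.baseChange C').restrictScalars P' (eM.symm x) := by
    intro x
    induction x with
    | zero => simp
    | add x y hx hy => simp only [map_add, hx, hy]
    | tmul a m =>
      simp [eM, eN, Algebra.IsPushout.cancelBaseChange_symm_tmul]
  refine Iff.trans ?_ (injFlat_restrictScalars_iff hsurj (u.baseChange C') q)
  refine ⟨fun hu => InjFlat.congr (R := R) eM.symm eN.symm hc hu,
    fun hu => InjFlat.congr (R := R) eM eN (fun x => ?_) hu⟩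
  rw [← LinearEquiv.eq_symm_apply, hc, LinearEquiv.symm_apply_apply]

end Groth.Agent.FlatStage
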